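import Cfsg.Agent.Lib.T2.OmI
import Cfsg.Agent.Lib.T2.OmT4

/-!
The orthogonal groups of even dimension at least eight have no doubly transitive action.
-/

set_option autoImplicit false

namespace Cfsg.Agent.T2

open Module Cfsg.Agent.Forms Cfsg.Agent.Forms.Form Cfsg.Agent.Cls Cfsg.Agent.Deg Cfsg.Agent.MI Finset

variable {G Ω : Type*} [Group G] [MulAction G Ω] [FaithfulSMul G Ω] [Fintype Ω] [Nontrivial Ω]
  (h : Two G Ω) {F : Type*} [Field F] [Fintype F] {m : ℕ}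
include h

theorem not_plus (hm : 4 ≤ m) (e : G ≃* POmega F (quadFormPlus m F)) : False := by
  obtain ⟨j, rfl⟩ : ∃ j, m = j + 4 := ⟨m - 4, by omega⟩
  obtain ⟨q, hq⟩ : ∃ q, q = Nat.card F := ⟨_, rfl⟩
  obtain ⟨x, hx⟩ : ∃ x, x = q * q ^ (j + 2) := ⟨_, rfl⟩
  obtain ⟨H, Y, u, v, S, a1, -, a2, hu, hu0, hP, b1, b2, b3, b4, b5⟩ := data_plus h hq rfl hx e
  have q1 : (0 : ℤ) ≤ q - 1 := by
    have : 1 < q := hq ▸ Finite.one_lt_card
    omega
  refine om_not_PTr_even S a1 a2 (j := j) (finrank_plus _) (.inl rfl) hq.symm (x := x) (by rw [hx]; ring)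
    (by rw [b1]; ring) (fun c hc => by rw [b2 c hc]; ring) (fun h4 => ?_) (fun _ => ?_) hu hu0 hP
  · rw [← b3]
    exact mul_le_mul_of_nonneg_right (by exact_mod_cast b4 (by simpa using h4)) q1
  · zify at b5
    refine le_of_mul_le_mul_left (a := (x : ℤ) + 1) ?_ (by positivity)
    calc _ = x * v * ((q : ℤ) - 1) := by linear_combination -(x : ℤ) * b3
      _ ≤ (x + 1) * Y.card * ((q : ℤ) - 1) := mul_le_mul_of_nonneg_right b5 q1
      _ = _ := by ring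

theorem not_minus (hm : 4 ≤ m) {a b : F}
    (hab : ∀ z₁ z₂ : F, z₁ ^ 2 + a * z₁ * z₂ + b * z₂ ^ 2 = 0 → z₁ = 0 ∧ z₂ = 0)
    (e : G ≃* POmega F (quadFormMinus (m - 1) F a b)) : False := by
  obtain ⟨j, rfl⟩ : ∃ j, m = j + 4 := ⟨m - 4, by omega⟩
  obtain ⟨q, hq⟩ : ∃ q, q = Nat.card F := ⟨_, rfl⟩
  obtain ⟨x, hx⟩ : ∃ x, x = q * q ^ (j + 2) := ⟨_, rfl⟩
  obtain ⟨H, Y, u, v, S, a1, -, a2, hu, hu0, hP, b1, b2, b3, b4, -⟩ := data_minus h hab hq rfl hx e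
  have q1 : (0 : ℤ) ≤ q - 1 := by
    have : 1 < q := hq ▸ Finite.one_lt_card
    omega
  refine om_not_PTr_even S a1 a2 (j := j) (finrank_minus _) (.inr rfl) hq.symm (x := x) (by rw [hx]; ring)
    (by rw [b1]; ring) (fun c hc => by rw [b2 c hc]; ring) (fun _ => ?_) (fun h => by omega) hu hu0 hP
  rw [← b3]
  exact mul_le_mul_of_nonneg_right (by exact_mod_cast b4) q1

end Cfsg.Agent.T2
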