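import Cfsg.Agent.Lib.T2.OmI
import Cfsg.Agent.Lib.T2.OmT5

/-!
The orthogonal groups of odd dimension at least seven have no doubly transitive action.
-/

set_option autoImplicit false

namespace Cfsg.Agent.T2

open Module Cfsg.Agent.Forms Cfsg.Agent.Forms.Form Cfsg.Agent.Cls Cfsg.Agent.Deg Cfsg.Agent.MI Finset

theorem card_sqrt {F : Type*} [Field F] (h2 : (2 : F) ≠ 0) {c : F} (hc : c ≠ 0) :
    Nat.card {z : F // z ^ 2 = c} = 2 ∨ Nat.card {z : F // z ^ 2 = c} = 0 := by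
  rcases isEmpty_or_nonempty {z : F // z ^ 2 = c} with h | ⟨⟨z, hz⟩⟩
  · exact .inr Nat.card_of_isEmpty
  · refine .inl (Nat.card_eq_two_iff.2 ⟨⟨z, hz⟩, ⟨-z, by rw [neg_sq, hz]⟩, fun e => hc ?_,
      Set.eq_univ_of_forall fun ⟨w, hw⟩ => ?_⟩)
    · have e1 : z = -z := congrArg Subtype.val e
      have e2 : z = 0 := (mul_eq_zero.1 (show 2 * z = 0 by linear_combination e1)).resolve_left h2
      rw [← hz, e2, zero_pow two_ne_zero]
    · simpa [Subtype.ext_iff] using sq_eq_sq_iff_eq_or_eq_neg.1 (hw.trans hz.symm)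

theorem not_odd {G Ω : Type*} [Group G] [MulAction G Ω] [FaithfulSMul G Ω] [Fintype Ω] [Nontrivial Ω]
    (h : Two G Ω) {F : Type*} [Field F] [Fintype F] {m : ℕ} (hm : 3 ≤ m) (hodd : Odd (Fintype.card F))
    (e : G ≃* POmega F (quadFormOdd m F)) : False := by
  obtain ⟨j, rfl⟩ : ∃ j, m = j + 3 := ⟨m - 3, by omega⟩
  obtain ⟨q, hq⟩ : ∃ q, q = Nat.card F := ⟨_, rfl⟩
  obtain ⟨x, hx⟩ : ∃ x, x = q ^ (j + 2) := ⟨_, rfl⟩
  obtain ⟨H, Y, u, v, S, a1, -, a2, hu, hu0, hP, b1, b3, b4, b5⟩ := data_odd h hodd hq hx e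
  have q1 : (0 : ℤ) ≤ q - 1 := by
    have : 1 < q := hq ▸ Finite.one_lt_card
    omega
  have h2 := two_ne_zero_of_odd hodd
  refine om_not_PTr_odd S a1 a2 (j := j) (finrank_odd _) h2 hq.symm hx
    (by exact_mod_cast b1) (fun c hc => ?_) (fun h5 => ?_) b5 hu hu0 hP
  · rw [oddForm_Q, card_odd (j + 2), ← hq, hx]
    refine (card_sqrt h2 hc).imp (fun e => ?_) fun e => ?_ <;> rw [e] <;> push_cast <;> ring
  · rw [← b3]
    exact mul_le_mul_of_nonneg_right (by exact_mod_cast b4 h5) q1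

end Cfsg.Agent.T2
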