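import Cfsg.Agent.Lib.T2.SUa
import Cfsg.Agent.Lib.T2.Srg

/-!
Doubly transitive actions in which the stabiliser of a singular point of a polar space is
intransitive: the degree is determined by the parameters of the collinearity graph.
-/

set_option autoImplicit false

namespace Cfsg.Agent.T2

open Module Cfsg.Agent.Forms Cfsg.Agent.Forms.Form Cfsg.Agent.Cls Cfsg.Agent.Deg Cfsg.Agent.MI Finset

variable {F : Type*} [Field F] {P : Param F} {V : Type*} [AddCommGroup V] [Module F V]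
  {f : Form P V} {X : Type*} [MulAction f.Isom X] {G : Subgroup f.Isom} {Y : Finset X} {u : V}

theorem pt_srg [Finite F] [Finite V] (S : Sys f G Y) (h2 : TwoY G Y) (hu : f.Q u = 0) (hu0 : u ≠ 0)
    (hP : ¬ PTr G u Y)
    (hcl : ∀ z, f.Q z = 0 → z ≠ 0 → ∀ y ∈ Cs f z, ∀ y' ∈ Cs f z,
      ∃ k ∈ G, ∃ a c : F, a ≠ 0 ∧ c ≠ 0 ∧ k.1 z = a • z ∧ k.1 y = c • y')
    {v k m : ℚ} (hv : v * (Nat.card F - 1) = {w | f.Q w = 0 ∧ w ≠ 0}.ncard)
    (hk : ∀ z, f.Q z = 0 → z ≠ 0 → k * (Nat.card F - 1) = (Cs f z).ncard) (k0 : k ≠ 0)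
    (hm : ∀ z e, f.HypPair z e →
      m * (Nat.card F - 1) = {w | (f.Q w = 0 ∧ w ≠ 0) ∧ f.B w z = 0 ∧ f.B w e = 0}.ncard) :
    ∃ l θ : ℚ, k * (k - l - 1) = (v - k - 1) * m ∧ θ ^ 2 - (l - m) * θ - (k - m) = 0 ∧
      (Y.card - 1) * (l - m - 2 * θ) = -((v - 1) * θ + k) := by
  let _ := actY S
  have hT := two_actY S h2
  obtain ⟨K, hK, -⟩ := exists_Pu S hu hu0
  obtain ⟨I, hI, a, b, x, i1, i2⟩ := exists_inc (G := G) (Ω := Y) (P := K) fun h =>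
    hP fun a ha b hb => by
      obtain ⟨g, hg, e⟩ := h ⟨a, ha⟩ ⟨b, hb⟩
      obtain ⟨s, hs, e1⟩ := (hK g).1 hg
      exact ⟨g, g.2, s, hs, e1, congrArg Subtype.val e⟩
  have hq : ∀ g k : G, ((g : G ⧸ K) = k) ↔ ∃ s : F, s ≠ 0 ∧ k.1.1 u = s • g.1.1 u :=
    fun g k => by
    rw [QuotientGroup.eq, hK]
    refine exists_congr fun s => and_congr_right fun _ => ?_
    rw [← map_smul, ← g.1.1.injective.eq_iff]
    change g.1.1 (g.1⁻¹.1 (k.1.1 u)) = _ ↔ _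
    rw [Isom.apply_inv]
  obtain ⟨pt, hpt⟩ : ∃ pt : G ⧸ K → V, ∀ x, pt x = x.out.1.1 u := ⟨_, fun _ => rfl⟩
  have p1 : ∀ x, f.Q (pt x) = 0 := fun x => by rwa [hpt, Isom.map_Q]
  have p2 : ∀ x, pt x ≠ 0 := fun x => by rw [hpt]; simpa using hu0
  have p3 : ∀ (g : G) x y, g • x = y ↔ ∃ s : F, s ≠ 0 ∧ pt y = s • g.1.1 (pt x) := fun g x y => by
    have := hq (g * x.out) y.out
    rw [QuotientGroup.out_eq', ← smul_eq_mul, MulAction.Quotient.mk_smul_out] at this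
    rw [this, hpt, hpt]
    rfl
  have p4 : ∀ x y, pt y ∈ F ∙ pt x ↔ x = y := fun x y => ⟨fun h => by
    obtain ⟨s, hs⟩ := Submodule.mem_span_singleton.1 h
    have := (p3 1 x y).2 ⟨s, fun e => p2 y (by rw [← hs, e, zero_smul]), hs.symm⟩
    rwa [one_smul] at this, fun e => e ▸ Submodule.mem_span_singleton_self _⟩
  have p5 : ∀ w, f.Q w = 0 → w ≠ 0 → ∃ x, ∃ s : F, s ≠ 0 ∧ pt x = s • w := fun w h1 h2 => by
    obtain ⟨g, hg, s, hs, e⟩ := S.exists_map (p1 x) (p2 x) h1 h2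
    obtain ⟨t, ht, e1⟩ := (p3 ⟨g, hg⟩ x _).1 rfl
    exact ⟨_, t * s, mul_ne_zero ht hs, by rw [e1, mul_smul]; exact congrArg _ e⟩
  have hF : ((Nat.card F : ℚ) - 1) ≠ 0 := by
    have : 1 < Nat.card F := Finite.one_lt_card
    exact sub_ne_zero.2 (by exact_mod_cast this.ne')
  have cnt : ∀ (p : V → Prop) (c : ℚ), (∀ (s : F) w, s ≠ 0 → p w → p (s • w)) →
      c * (Nat.card F - 1) = {w | (f.Q w = 0 ∧ w ≠ 0) ∧ p w}.ncard → c = {x | p (pt x)}.ncard :=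
    fun p c hp hc => by
    have e1 : {w | (f.Q w = 0 ∧ w ≠ 0) ∧ p w} =
        (fun z : (G ⧸ K) × Fˣ => (z.2 : F) • pt z.1) '' ({x | p (pt x)} ×ˢ Set.univ) := by
      ext w
      constructor
      · rintro ⟨⟨h1, h2⟩, h3⟩
        obtain ⟨x, s, hs, e⟩ := p5 w h1 h2
        exact ⟨(x, (Units.mk0 s hs)⁻¹), ⟨show p (pt x) from e ▸ hp s w hs h3, trivial⟩, by
          simp [e, hs]⟩
      · rintro ⟨z, hz, rfl⟩
        exact ⟨⟨by rw [f.Q_smul, p1, mul_zero], smul_ne_zero z.2.ne_zero (p2 _)⟩,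
          hp _ _ z.2.ne_zero hz.1⟩
    rw [e1, Set.ncard_image_of_injective, Set.ncard_prod, Set.ncard_univ, Nat.card_units,
      Nat.cast_mul, Nat.cast_pred Nat.card_pos] at hc
    · exact mul_right_cancel₀ hF hc
    · rintro ⟨x, s⟩ ⟨y, t⟩ e
      simp only at e
      obtain rfl : x = y := (p4 x y).1 (by
        rw [← Submodule.smul_mem_iff _ t.ne_zero, ← e]
        exact Submodule.smul_mem _ _ (Submodule.mem_span_singleton_self _))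
      exact Prod.ext rfl (Units.ext (smul_left_injective F (p2 x) e))
  let A : G ⧸ K → G ⧸ K → Prop := fun x y => x ≠ y ∧ f.B (pt y) (pt x) = 0
  have hA : ∀ x y, A x y ↔ pt y ∈ Cs f (pt x) := fun x y =>
    ⟨fun h => ⟨h.2, p1 y, mt (p4 x y).1 h.1⟩, fun h => ⟨mt (p4 x y).2 h.2.2, h.1⟩⟩
  have R : Rk3 G A := by
    refine ⟨fun x h => h.1 rfl, fun x y h => ⟨h.1.symm, f.B_eq_zero_symm h.2⟩,
      fun g x y h => ⟨fun e => h.1 (smul_left_cancel g e), ?_⟩, fun x y => MulAction.exists_smul_eq G x y,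
      fun x y y' h h' => ?_, fun x y y' e h e' h' => ?_⟩
    · obtain ⟨s, -, e1⟩ := (p3 g x _).1 rfl
      obtain ⟨t, -, e2⟩ := (p3 g y _).1 rfl
      rw [e1, e2, B_smul_left, B_smul_right, Isom.map_B, h.2, mul_zero, mul_zero]
    · obtain ⟨g, hg, a, c, ha, hc, e1, e2⟩ := hcl _ (p1 x) (p2 x) _ ((hA _ _).1 h) _ ((hA _ _).1 h')
      exact ⟨⟨g, hg⟩, (p3 _ _ _).2 ⟨a⁻¹, inv_ne_zero ha, (eq_inv_smul_iff₀ ha).2 e1.symm⟩,
        (p3 _ _ _).2 ⟨c⁻¹, inv_ne_zero hc, (eq_inv_smul_iff₀ hc).2 e2.symm⟩⟩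
    · obtain ⟨g, w, l, s, hs, hg, e1⟩ := exists_isE_map (p1 x) (p1 y) (p1 y')
        (B_ne_symm fun e1 => h ⟨e, e1⟩) (B_ne_symm fun e1 => h' ⟨e', e1⟩)
      exact ⟨⟨g, S.ein (p1 x) hg⟩, (p3 _ _ _).2 ⟨1, one_ne_zero, by
        rw [one_smul]; exact (hg.apply_self (p1 x)).symm⟩,
        (p3 _ _ _).2 ⟨s⁻¹, inv_ne_zero hs, (eq_inv_smul_iff₀ hs).2 e1.symm⟩⟩
  have c1 : k = {y | A x y}.ncard := by
    simp only [hA]
    refine cnt (· ∈ Cs f (pt x)) k (fun s w hs h => ⟨by rw [B_smul_left, h.1, mul_zero],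
      by rw [f.Q_smul, h.2.1, mul_zero], by rw [Submodule.smul_mem_iff _ hs]; exact h.2.2⟩) ?_
    rw [hk _ (p1 x) (p2 x)]
    congr 2
    ext w
    exact ⟨fun h => ⟨⟨h.2.1, fun e => h.2.2 (e ▸ zero_mem _)⟩, h⟩, fun h => h.2⟩
  obtain ⟨y, hy⟩ : {y | A x y}.Nonempty := Set.nonempty_of_ncard_ne_zero fun e => k0 (by
    rw [c1, e, Nat.cast_zero])
  obtain ⟨e, he⟩ := S.nd.exists_hypPair (p1 x) (p2 x)
  obtain ⟨z, s, hs, ez⟩ := p5 e he.Qe he.e_ne_zero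
  have z1 : f.B (pt z) (pt x) ≠ 0 := by
    rw [ez, B_smul_left, he.Beu]
    exact mul_ne_zero hs P.ε_ne_zero
  have z2 : x ≠ z := fun e => z1 (e ▸ he.Buu)
  refine hT.srg hI i1 i2 R hy z2 (fun h => z1 h.2) (by rw [Nat.card_eq_finsetCard]) ?_ c1 ?_
  · rw [← Set.ncard_univ]
    exact cnt (fun _ => True) v (fun _ _ _ _ => trivial) (by simpa using hv)
  · rw [cnt (fun w => f.B w (pt x) = 0 ∧ f.B w e = 0) m (fun s w _ h => by
      simp only [B_smul_left, h.1, h.2, mul_zero, and_self]) (hm _ _ he)]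
    congr 2
    ext w
    refine ⟨fun h => ⟨⟨fun e1 => ?_, h.1⟩, fun e1 => z1 (e1 ▸ h.1), ?_⟩, fun h => ⟨h.1.2, ?_⟩⟩
    · have := h.2
      rw [← e1, he.Bue] at this
      exact one_ne_zero this
    · rw [ez, B_smul_left, f.B_eq_zero_symm h.2, mul_zero]
    · have := h.2.2
      rw [ez, B_smul_left] at this
      exact f.B_eq_zero_symm ((mul_eq_zero.1 this).resolve_left hs)

theorem ncard_perp_pair {z e : V} :
    {w | (f.Q w = 0 ∧ w ≠ 0) ∧ f.B w z = 0 ∧ f.B w e = 0}.ncard =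
      {w | (f.restrict (f.orth (Submodule.span F {z, e}))).Q w = 0 ∧ w ≠ 0}.ncard := by
  rw [← Set.ncard_image_of_injective _ (Subtype.val_injective (p := (· ∈ f.orth (Submodule.span F {z, e}))))]
  congr 1
  ext w
  constructor
  · rintro ⟨⟨h1, h2⟩, h3⟩
    exact ⟨⟨w, mem_orth_pair.2 h3⟩, ⟨h1, fun e => h2 (congrArg Subtype.val e)⟩, rfl⟩
  · rintro ⟨w, ⟨h1, h2⟩, rfl⟩
    exact ⟨⟨h1, fun e => h2 (Subtype.ext e)⟩, mem_orth_pair.1 w.2⟩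

end Cfsg.Agent.T2
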