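import Cfsg.Agent.Lib.T2.SPa
import Cfsg.Agent.Lib.T2.Pt

/-!
Doubly transitive actions of the projective symplectic groups.
-/

set_option autoImplicit false

namespace Cfsg.Agent.T2

open Module Cfsg.Agent.Forms Cfsg.Agent.Forms.Form Cfsg.Agent.Cls Cfsg.Agent.Deg Cfsg.Agent.MI Finset

theorem pull_center {G G₀ G₁ Ω : Type*} [Group G] [Group G₀] [Group G₁] [MulAction G Ω]
    [FaithfulSMul G Ω] (h : Two G Ω) (e₁ : G₁ ≃* G₀) (e : G ≃* G₁ ⧸ Subgroup.center G₁) :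
    ∃ _ : MulAction G₀ Ω, Two G₀ Ω ∧ ∀ g : G₀, (∀ a : Ω, g • a = a) → g ∈ Subgroup.center G₀ := by
  let φ : G₀ →* G := (e.trans (centerQuotEquiv e₁)).symm.toMonoidHom.comp (QuotientGroup.mk' _)
  refine ⟨MulAction.compHom Ω φ, ?_, fun g hg => ?_⟩
  · let _ := MulAction.compHom Ω φ
    refine h.comp fun g => ?_
    obtain ⟨k, hk⟩ := QuotientGroup.mk_surjective ((e.trans (centerQuotEquiv e₁)) g)
    refine ⟨k, fun a => ?_⟩
    change (e.trans (centerQuotEquiv e₁)).symm k • a = _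
    rw [hk, MulEquiv.symm_apply_apply]
  · have h1 : φ g = 1 := eq_of_smul_eq_smul (α := Ω) fun a => (hg a).trans (one_smul G a).symm
    exact (QuotientGroup.eq_one_iff g).1 
      ((MulEquiv.map_eq_one_iff (e.trans (centerQuotEquiv e₁)).symm).1 h1)

variable {F : Type*} [Field F] {V : Type*} [AddCommGroup V] [Module F V]
  {f : Form (Param.sp F) V} {X : Type*} [MulAction f.Isom X] {Y : Finset X}

theorem sp_card [Finite F] [Finite V] (S : Sys f ⊤ Y) (h2 : TwoY (⊤ : Subgroup f.Isom) Y)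
    (h1 : 1 < Y.card) (hY : FaithY (⊤ : Subgroup f.Isom) Y) {j : ℕ} (hm : finrank F V = 2 * (j + 1))
    (j1 : 1 ≤ j) (hx : j = 1 → 3 ≤ Nat.card F) : 2 ≤ j ∧ Nat.card F = 2 ∧
      (Y.card = 2 ^ j * (2 ^ (j + 1) + 1) ∨ Y.card = 2 ^ j * (2 ^ (j + 1) - 1)) := by
  have : Nontrivial V := (finrank_pos_iff (R := F)).1 (by omega)
  obtain ⟨u, hu0⟩ := exists_ne (0 : V)
  have hP := sp_not_PTr S h2 h1 hY hu0 hm (by omega) fun e => hx (by omega)
  obtain ⟨q, hq⟩ : ∃ q, Nat.card F = q := ⟨_, rfl⟩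
  have q2 : 2 ≤ q := hq ▸ Finite.one_lt_card
  have hV : Nat.card V = q ^ (2 * (j + 1)) := by rw [Module.natCard_eq_pow_finrank (K := F), hm, hq]
  obtain ⟨x, hx'⟩ : ∃ x : ℚ, x = q ^ j := ⟨_, rfl⟩
  have q2' : (2 : ℚ) ≤ q := by exact_mod_cast q2
  have q1 : (q : ℚ) - 1 ≠ 0 := by linarith [show (0 : ℚ) < q - 1 by linarith]
  have xq : (q : ℚ) ≤ x := hx' ▸ le_self_pow₀ (by linarith) (by omega)
  have hN : ({w | f.Q w = 0 ∧ w ≠ 0}.ncard : ℚ) = q ^ 2 * x ^ 2 - 1 := by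
    have := card_sing_sp (f := f)
    rw [hV] at this
    rw [eq_sub_iff_add_eq, hx', ← pow_mul, ← pow_add, show 2 + j * 2 = 2 * (j + 1) by ring]
    exact_mod_cast this
  obtain ⟨l, θ, e1, e2, e3⟩ := pt_srg S h2 (f.sp_Q u) hu0 hP
    (fun z _ hz y hy y' hy' => let ⟨k, hk⟩ := sp_class S.nd hz hy hy' one_ne_zero one_ne_zero
      ⟨k, trivial, 1, 1, one_ne_zero, one_ne_zero, hk⟩)
    (v := (q ^ 2 * x ^ 2 - 1) / (q - 1)) (k := q * ((x ^ 2 - 1) / (q - 1))) (m := (x ^ 2 - 1) / (q - 1))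
    (by rw [hq, hN, div_mul_cancel₀ _ q1]) (fun z hz hz0 => by
      have e := congrArg (Nat.cast (R := ℚ)) (card_sing hz hz0)
      rw [card_hyp_sp S.nd hz0, card_perp_pow S.nd hz0 (k := 2 * j + 1) hm, hN, hq] at e
      push_cast [show 1 ≤ q by omega] at e
      rw [hq, mul_assoc, div_mul_cancel₀ _ q1]
      rw [pow_succ _ (2 * j), mul_comm 2 j, pow_mul, ← hx'] at e
      linear_combination e)
    (mul_ne_zero (by linarith) (div_ne_zero (by nlinarith) q1)) (fun z e he => by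
      have e := card_sing_sp (f := f.restrict (f.orth (Submodule.span F {z, e})))
      have e1 := he.finrank_orth S.nd
      rw [Module.natCard_eq_pow_finrank (K := F), show finrank F _ = j * 2 by omega, hq, pow_mul] at e
      rw [ncard_perp_pair, hq, div_mul_cancel₀ _ q1, hx', sub_eq_iff_eq_add]
      exact_mod_cast e.symm)
  obtain ⟨μ, hμ⟩ : ∃ μ, μ = (x ^ 2 - 1) / (q - 1) := ⟨_, rfl⟩
  have hμ' : μ * (q - 1) = x ^ 2 - 1 := by rw [hμ, div_mul_cancel₀ _ q1]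
  have hv : (q ^ 2 * x ^ 2 - 1) / (q - 1) = q ^ 2 * μ + q + 1 := by
    rw [div_eq_iff q1]; linear_combination -(q : ℚ) ^ 2 * hμ'
  have μ0 : (q : ℚ) * μ ≠ 0 := mul_ne_zero (by linarith) fun e => by rw [e] at hμ'; nlinarith
  rw [← hμ] at e1 e2 e3
  rw [hv] at e1 e3
  have e4 : l = μ - 2 := mul_left_cancel₀ μ0 (by linear_combination -e1)
  subst e4
  have e5 : ∃ y : ℚ, (y = x ∨ y = -x) ∧ 2 * (q - 1) * (Y.card - 1) = q * (y - 1) * (q * y + 1) := by
    have e6 : (θ + 1) ^ 2 = x ^ 2 := by linear_combination e2 + hμ'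
    refine ⟨θ + 1, sq_eq_sq_iff_eq_or_eq_neg.1 e6, ?_⟩
    have e7 : θ + 1 ≠ 0 := fun e => by rw [e] at e6; nlinarith
    refine mul_left_cancel₀ e7 ?_
    linear_combination (-(q : ℚ) + 1) * e3 + (q ^ 2 * θ + q) * (hμ' - e6)
  obtain ⟨y, hy, e5⟩ := e5
  rcases q2.eq_or_lt with rfl | q3
  · refine ⟨by by_contra hc; have := hx (by omega); omega, hq, ?_⟩
    have e6 : 1 ≤ 2 ^ (j + 1) := Nat.one_le_two_pow
    push_cast at e5 hx'
    rcases hy with rfl | rfl
    · right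
      qify [e6]
      rw [pow_succ, ← hx']
      linear_combination e5 / 2
    · left
      qify
      rw [pow_succ, ← hx']
      linear_combination e5 / 2
  · exfalso
    by_cases e6 : j = 1 ∧ q = 3
    · obtain ⟨rfl, rfl⟩ := e6
      have e7 : (27 : ℚ) ≤ Y.card := by exact_mod_cast sp43_le S hq hm
      rcases hy with rfl | rfl <;> rw [hx'] at e5 <;> norm_num at e5 <;> linarith
    · have e7 := S.sp_le (by omega) (by omega) (by omega)
      rw [hV, hq] at e7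
      qify at e7 q3
      rw [show 2 * (j + 1) = 2 + j * 2 by ring, pow_add, pow_mul, ← hx'] at e7
      have e8 : 0 < (q : ℚ) * x * (x - 1) := by
        have : 0 < x - 1 := by linarith
        have : 0 < x := by linarith
        positivity
      rcases hy with rfl | rfl <;> nlinarith

theorem psp {G Ω : Type*} [Group G] [MulAction G Ω] [FaithfulSMul G Ω] [Fintype Ω] [Nontrivial Ω]
    (h : Two G Ω) {F : Type*} [Field F] [Fintype F] {m : ℕ} (hm : 2 ≤ m)
    (hx : m = 2 → 3 ≤ Fintype.card F) (e : G ≃* PSp m F) : 3 ≤ m ∧ Fintype.card F = 2 ∧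
      (Fintype.card Ω = 2 ^ (m - 1) * (2 ^ m + 1) ∨ Fintype.card Ω = 2 ^ (m - 1) * (2 ^ m - 1)) := by
  obtain ⟨_, h1, h2⟩ := pull_center h ((spEquiv m F).trans Subgroup.topEquiv.symm) e
  have hf := spForm_nondeg (F := F) m
  have hV : finrank F (Fin m ⊕ Fin m → F) = 2 * m := finrank_plus _
  obtain ⟨H, Y, -, -, S, e1, e2, e3⟩ := exists_sysT hf sp_big (by omega) (G := ⊤)
    (fun _ _ => trivial) (sp_gen hf) h1 h2
  obtain ⟨j, rfl⟩ : ∃ j, m = j + 1 := ⟨m - 1, by omega⟩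
  have := sp_card S e2 (e1 ▸ Fintype.one_lt_card) e3 hV (by omega) fun e => by
    rw [Nat.card_eq_fintype_card]; exact hx (by omega)
  rw [e1, Nat.card_eq_fintype_card] at this
  exact ⟨by omega, this.2⟩

end Cfsg.Agent.T2
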