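import Cfsg.Agent.Lib.T2.Pol
import Cfsg.Agent.Lib.T2.SP
import Cfsg.Agent.S2143
import Cfsg.Agent.S2144
import Cfsg.Agent.S2145
import Cfsg.Agent.S2146
import Cfsg.Agent.S2147

/-!
Doubly transitive actions of the orthogonal groups: the stabiliser of a singular point is
transitive, and lower bounds for the degree.
-/

set_option autoImplicit false

namespace Cfsg.Agent.T2

open Module Cfsg.Agent.Forms Cfsg.Agent.Forms.Form Cfsg.Agent.Cls Cfsg.Agent.Deg Cfsg.Agent.MI Finset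

section sys

variable {F : Type*} [Field F] {V : Type*} [AddCommGroup V] [Module F V]
  {f : Form (Param.orth F) V} [Fintype F] [Finite V] {u : V}
  {X : Type*} [MulAction f.Isom X] {Y : Finset X}

theorem om_pol (S : Sys f (commutator f.Isom) Y) (h2 : TwoY (commutator f.Isom) Y) {k : ℕ}
    (hk : finrank F V = k + 2) (h5 : 5 ≤ k) (hu : f.Q u = 0) (hu0 : u ≠ 0)
    (hP : ¬ PTr (commutator f.Isom) u Y) {q R d v : ℚ} (hq : q = Nat.card F) (hR : q * R = q ^ k)
    (h0 : (Nat.card {w // f.Q w = 0} : ℚ) = q * (d + R) + (q - 1) * (q * R))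
    (hv : v * (q - 1) = q * (d + R) + (q - 1) * (q * R) - 1) :
    ∃ φ : ℚ, φ ^ 2 - d * φ - R = 0 ∧ (Y.card - 1) * (2 * φ - d) = (v - 1) * φ - q * R := by
  obtain ⟨e, he⟩ := S.nd.exists_hypPair hu hu0
  obtain ⟨y, y0, y1, y2, y3⟩ := orth_rk2 S.nd (by omega) u e he
  have q2 : (2 : ℚ) ≤ q := by rw [hq]; exact_mod_cast (Finite.one_lt_card : 1 < Nat.card F)
  have q1 : q - 1 ≠ 0 := by linarith [show 0 < q - 1 by linarith]
  have q0 : q ≠ 0 := by linarith [show 0 < q by linarith]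
  have hy : y ∈ Cs f u := ⟨y2, y1, fun h => by
    obtain ⟨a, rfl⟩ := Submodule.mem_span_singleton.1 h
    rw [B_smul_left, he.Bue, mul_one] at y3
    exact y0 (by rw [y3, zero_smul])⟩
  have e1 := congrArg (Nat.cast (R := ℚ)) (card_perp_Q S.nd hu hu0 hk 0)
  have e2 := congrArg (Nat.cast (R := ℚ)) (card_Cs_add (f := f) hu hu0)
  have e3 := congrArg (Nat.cast (R := ℚ)) (ncard_sing_add_one f)
  push_cast [show 1 ≤ Nat.card F from Nat.card_pos] at e1 e2 e3
  rw [← hq] at e1 e2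
  obtain ⟨kk, hkk⟩ : ∃ kk : ℚ, kk * (q - 1) = q * (d + R - 1) := ⟨_, div_mul_cancel₀ _ q1⟩
  obtain ⟨⟨l, θ, a1, a2, a3⟩, -⟩ := pol_sys S h2 (fun u y y' hu hu0 hy hy' => by
    obtain ⟨g, hg, b1, b2⟩ := om_class S.nd (by omega) hu hu0 hy.1 hy'.1 hy.2.2 hy'.2.2 one_ne_zero
      (by rw [hy.2.1, hy'.2.1, mul_zero])
    exact ⟨g, hg, b1 ▸ Submodule.smul_mem _ _ (Submodule.mem_span_singleton_self _),
      b2 ▸ Submodule.smul_mem _ _ (Submodule.mem_span_singleton_self _)⟩) he hy hP rfl hq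
    (v := v) (k := kk) (by linear_combination hv - h0 - e3) (by linear_combination hkk - e2 - e1 - h0 - (q - 1) * hR)
  have b1 : v - kk - 1 = q * R := mul_right_cancel₀ q1 (by linear_combination hv - hkk)
  have b2 : kk ≠ 0 := by
    rintro rfl
    have : (Cs f u).ncard = 0 := by
      have : ((Cs f u).ncard : ℚ) = 0 := by linear_combination e2 + e1 + h0 - hkk + (q - 1) * hR
      exact_mod_cast this
    rw [Set.ncard_eq_zero] at this
    exact (this ▸ hy : y ∈ (∅ : Set V))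
  obtain ⟨μ, rfl⟩ : ∃ μ, kk = q * μ := ⟨kk / q, by field_simp⟩
  rw [mul_div_cancel_left₀ _ q0] at a1 a2 a3
  have b3 : μ * (q - 1) = d + R - 1 := mul_left_cancel₀ q0 (by linear_combination hkk)
  have b4 : l = q * μ - 1 - R := mul_left_cancel₀ b2 (by rw [b1] at a1; linear_combination -a1)
  subst b4
  exact ⟨θ + 1, by linear_combination a2 + (θ + 1) * b3,
    by linear_combination -a3 + (Y.card - 1) * b3 - b1⟩

theorem om_PTr_even (S : Sys f (commutator f.Isom) Y) (h2 : TwoY (commutator f.Isom) Y)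
    {q x y j v : ℕ} {ε : ℤ} (hq : q = Nat.card F) (hy : y = q ^ (j + 2)) (hx : x = q * y)
    (hε : ε = 1 ∨ ε = -1) (hk : finrank F V = 2 * (j + 4))
    (h0 : (Nat.card {w // f.Q w = 0} : ℤ) = (q * x - ε) * (x + ε) + 1)
    (hv : (v : ℤ) * (q - 1) = (q * x - ε) * (x + ε)) (hB : x * v ≤ (x + 1) * Y.card)
    (hu : f.Q u = 0) (hu0 : u ≠ 0) : PTr (commutator f.Isom) u Y := by
  by_contra hP
  have hε2 : (ε : ℚ) ^ 2 = 1 := by rcases hε with rfl | rfl <;> norm_num
  have hx' : (x : ℚ) = q * y := by exact_mod_cast hx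
  qify at h0 hv hB
  obtain ⟨φ, e1, e2⟩ := om_pol S h2 (k := 2 * j + 6) hk (by omega) hu hu0 hP (q := q) (R := q * y ^ 2)
    (d := ε * (q - 1) * y) (v := v) (by exact_mod_cast hq) (by rw [hy]; push_cast; ring)
    (by rw [h0, hx']; linear_combination -hε2) (by rw [hv, hx']; linear_combination -hε2)
  have q2 : (2 : ℚ) ≤ q := by rw [hq]; exact_mod_cast (Finite.one_lt_card : 1 < Nat.card F)
  have y1 : (q : ℚ) ^ 2 ≤ y := by
    rw [hy]; push_cast
    exact pow_le_pow_right₀ (by linarith) (by omega)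
  have y4 : (4 : ℚ) ≤ y := by nlinarith
  have x4 : (4 : ℚ) * q ≤ x := by nlinarith
  have y0 : (ε : ℚ) * y ≠ 0 := mul_ne_zero (fun e => by simp [e] at hε2) (by linarith)
  have v1 : (x : ℚ) ^ 2 ≤ v := by
    refine le_of_mul_le_mul_right (a := (q : ℚ) - 1) ?_ (by linarith)
    rcases hε with rfl | rfl <;> push_cast at hv <;> nlinarith
  have e3 : (φ - ε * q * y) * (φ + ε * y) = 0 := by linear_combination e1 - q * y ^ 2 * hε2
  have e4 : ((Y.card : ℚ) - 1) * (q + 1) ≤ (v - 1) * q + q * x := by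
    rcases mul_eq_zero.1 e3 with e | e
    · obtain rfl : φ = ε * q * y := by linarith
      have : ((Y.card : ℚ) - 1) * (q + 1) = (v - 1) * q - ε * q * x := mul_left_cancel₀ y0 (by
        rw [hx']; linear_combination e2 + q ^ 2 * y ^ 2 * hε2)
      rcases hε with rfl | rfl <;> push_cast at this <;> nlinarith
    · obtain rfl : φ = -(ε * y) := by linarith
      have : ((Y.card : ℚ) - 1) * (q + 1) = (v - 1) + ε * q * x := mul_left_cancel₀ y0 (by
        rw [hx']; linear_combination -e2 - q ^ 2 * y ^ 2 * hε2)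
      rcases hε with rfl | rfl <;> push_cast at this <;> nlinarith
  have e5 : ((x : ℚ) + 1) * ((Y.card - 1) * (q + 1)) ≤ (x + 1) * ((v - 1) * q + q * x) := by gcongr
  have e6 : ((q : ℚ) + 1) * (x * v) ≤ (q + 1) * ((x + 1) * Y.card) := by gcongr
  have e7 : (x : ℚ) ^ 2 * (x - q) ≤ v * (x - q) := by gcongr; linarith
  have e8 : (0 : ℚ) ≤ x * x * (x - 4 * q) := by
    have : (0 : ℚ) ≤ x - 4 * q := by linarith
    positivity
  nlinarith

theorem om_PTr_odd (S : Sys f (commutator f.Isom) Y) (h2 : TwoY (commutator f.Isom) Y)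
    {q x j v : ℕ} (hq : q = Nat.card F) (hx : x = q ^ (j + 2)) (hk : finrank F V = 2 * (j + 3) + 1)
    (h0 : Nat.card {w // f.Q w = 0} = q ^ 2 * x ^ 2) (hv : (v : ℤ) * (q - 1) = q ^ 2 * x ^ 2 - 1)
    (hB : v ≤ Y.card ∨ q = 3 ∧ 3 * x * (3 * x - 1) ≤ 2 * Y.card)
    (hu : f.Q u = 0) (hu0 : u ≠ 0) : PTr (commutator f.Isom) u Y := by
  by_contra hP
  qify at h0 hv
  obtain ⟨φ, e1, e2⟩ := om_pol S h2 (k := 2 * j + 5) hk (by omega) hu hu0 hP (q := q) (R := x ^ 2)
    (d := 0) (v := v) (by exact_mod_cast hq) (by rw [hx]; push_cast; ring)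
    (by rw [h0]; ring) (by rw [hv]; ring)
  have q2 : (2 : ℚ) ≤ q := by rw [hq]; exact_mod_cast (Finite.one_lt_card : 1 < Nat.card F)
  have x1 : (q : ℚ) ^ 2 ≤ x := by
    rw [hx]; push_cast
    exact pow_le_pow_right₀ (by linarith) (by omega)
  have x2 : 2 * (q : ℚ) ≤ x := by nlinarith
  have e3 : (φ - x) * (φ + x) = 0 := by linear_combination e1
  have x0 : (x : ℚ) ≠ 0 := by linarith
  have e4 : ((Y.card : ℚ) - 1) * 2 ≤ v - 1 + q * x := by
    have : (0 : ℚ) ≤ q * x := by positivity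
    rcases mul_eq_zero.1 e3 with e | e
    · obtain rfl : φ = x := by linarith
      have : ((Y.card : ℚ) - 1) * 2 = v - 1 - q * x := mul_left_cancel₀ x0 (by linear_combination e2)
      linarith
    · obtain rfl : φ = -x := by linarith
      exact le_of_eq (mul_left_cancel₀ x0 (by linear_combination -e2))
  rcases hB with hB | ⟨rfl, hB⟩
  · qify at hB
    have e5 : (v : ℚ) * (q - 1) ≤ (q * x + 1) * (q - 1) := by gcongr <;> linarith
    have : (0 : ℚ) < q * x := by positivity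
    nlinarith
  · have x9 : 1 ≤ 3 * x := by
      have : (1 : ℚ) ≤ 3 * x := by push_cast at x2; linarith
      exact_mod_cast this
    qify [x9] at hB
    push_cast at *
    nlinarith

end sys

theorem Two.le_card {G G' Ω : Type*} [Group G] [Group G'] [MulAction G Ω] [Fintype Ω] [Nontrivial Ω]
    (h : Two G Ω) (e : G ≃* G') {B : ℕ} (hB : ∀ H : Subgroup G', H ≠ ⊤ → B ≤ H.index) :
    B ≤ Fintype.card Ω := by
  obtain ⟨a, b, hab⟩ := exists_pair_ne Ω
  have e4 : ((MulAction.stabilizer G a).comap e.symm.toMonoidHom).index = Fintype.card Ω := by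
    rw [Subgroup.index_comap_of_surjective _ e.symm.surjective, MulAction.index_stabilizer,
      Set.eq_univ_of_forall (s := MulAction.orbit G a) (h.trans a), Set.ncard_univ,
      Nat.card_eq_fintype_card]
  refine e4 ▸ hB _ fun e5 => ?_
  rw [e5, Subgroup.index_top] at e4
  exact Fintype.one_lt_card.ne e4

section conc

variable {G Ω : Type*} [Group G] [MulAction G Ω] [Fintype Ω] [Nontrivial Ω] (h : Two G Ω)
  {F : Type*} [Field F] [Fintype F] {q x y j v : ℕ} (hq : q = Nat.card F)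
include h hq

theorem min_odd (hodd : Odd (Fintype.card F)) (hx : x = q ^ (j + 2))
    (hv : (v : ℤ) * (q - 1) = q ^ 2 * x ^ 2 - 1) (e : G ≃* POmega F (quadFormOdd (j + 3) F)) :
    (5 ≤ q → v ≤ Fintype.card Ω) ∧ (q = 3 → 3 * x * (3 * x - 1) ≤ 2 * Fintype.card Ω) := by
  have hq' : Fintype.card F = q := by rw [hq, Nat.card_eq_fintype_card]
  refine ⟨fun h5 => ?_, fun h3 => ?_⟩
  · refine le_of_eq_of_le (Nat.div_eq_of_eq_mul_left (by omega) ?_).symm
      (h.le_card e (S2143.result hq' (hq' ▸ hodd) h5 (j + 3) (by omega)).1)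
    zify [show 1 ≤ q by omega, show 1 ≤ q ^ (2 * (j + 3)) from Nat.one_le_pow _ _ (by omega)]
    rw [hv, hx]; push_cast; ring
  · have e1 := h.le_card e (S2144.result (hq'.trans h3) (j + 3) (by omega)).1
    rw [show 3 ^ (j + 3) = 3 * x by rw [hx, h3]; ring] at e1
    have := Nat.div_mul_cancel (Nat.even_mul_pred_self (3 * x)).two_dvd
    omega

theorem min_minus {a b : F} (hab : ∀ z₁ z₂ : F, z₁ ^ 2 + a * z₁ * z₂ + b * z₂ ^ 2 = 0 → z₁ = 0 ∧ z₂ = 0)
    (hy : y = q ^ (j + 2)) (hx : x = q * y) (hv : (v : ℤ) * (q - 1) = (q * x - -1) * (x + -1))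
    (e : G ≃* POmega F (quadFormMinus (j + 3) F a b)) : v ≤ Fintype.card Ω := by
  have hq' : Fintype.card F = q := by rw [hq, Nat.card_eq_fintype_card]
  have q2 : 1 < q := hq ▸ Finite.one_lt_card
  refine le_of_eq_of_le (Nat.div_eq_of_eq_mul_left (by omega) ?_).symm
    (h.le_card e (S2147.result hq' (j + 4) (by omega) a b hab).1)
  rw [show j + 4 - 1 = j + 3 from rfl]
  zify [show 1 ≤ q by omega, show 1 ≤ q ^ (j + 3) from Nat.one_le_pow _ _ (by omega)]
  rw [hv, hx, hy]; push_cast; ring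

theorem min_plus [FaithfulSMul G Ω] (hy : y = q ^ (j + 2)) (hx : x = q * y)
    (hv : (v : ℤ) * (q - 1) = (q * x - 1) * (x + 1)) (e : G ≃* POmega F (quadFormPlus (j + 4) F)) :
    (4 ≤ q → v ≤ Fintype.card Ω) ∧ x * v ≤ (x + 1) * Fintype.card Ω := by
  have hq' : Fintype.card F = q := by rw [hq, Nat.card_eq_fintype_card]
  have q2 : 1 < q := hq ▸ Finite.one_lt_card
  have h4 : 4 ≤ q → v ≤ Fintype.card Ω := fun h4 => by
    refine le_of_eq_of_le (Nat.div_eq_of_eq_mul_left (by omega) ?_).symm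
      (h.le_card e (S2145.result hq' h4 (j + 4) (by omega)).1)
    rw [show j + 4 - 1 = j + 3 from rfl]
    zify [show 1 ≤ q by omega, show 1 ≤ q ^ (j + 4) from Nat.one_le_pow _ _ (by omega)]
    rw [hv, hx, hy]; push_cast; ring
  refine ⟨h4, ?_⟩
  rcases (show q = 2 ∨ q = 3 ∨ 4 ≤ q by omega) with rfl | rfl | h5
  · have e1 := h.le_card e (S2146.result hq' (j + 4) (by omega)).1
    rw [show 2 ^ (j + 4 - 1) = x by rw [hx, hy, show j + 4 - 1 = j + 3 from rfl]; ring,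
      show 2 ^ (j + 4) = 2 * x by rw [hx, hy]; ring] at e1
    have x1 : 1 ≤ 2 * x := by rw [hx, hy]; exact Nat.one_le_iff_ne_zero.2 (by positivity)
    zify [x1] at e1 ⊢
    push_cast at hv
    calc (x : ℤ) * v = (x + 1) * (x * (2 * x - 1)) := by linear_combination (x : ℤ) * hv
      _ ≤ _ := by gcongr
  · obtain ⟨_, h1, -⟩ := pull_center h (commutatorEquiv (plusEquiv (j + 4) F)) e
    obtain ⟨e1, e2⟩ := plus_counts (F := F) (j + 2)
    obtain ⟨B, hB⟩ : ∃ B : ℕ, 2 * (B : ℤ) = x * (3 * x - 1) := by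
      have x1 : 1 ≤ x := by rw [hx, hy]; exact Nat.one_le_iff_ne_zero.2 (by positivity)
      obtain ⟨c, hc⟩ := Nat.even_mul_pred_self x
      refine ⟨x * x + c, ?_⟩
      zify [x1] at hc
      push_cast
      linear_combination -hc
    have hy' : (y : ℤ) = 3 ^ (j + 2) := by exact_mod_cast hy
    have hx' : (x : ℤ) = 3 * y := by exact_mod_cast hx
    have y9 : (3 : ℤ) ^ 2 ≤ y := hy' ▸ pow_le_pow_right₀ (by omega) (by omega)
    have e3 := h1.le_card (MulEquiv.refl _) (omega_plus_ge (B := B) (plusForm_nondeg (F := F) (j + 4))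
      (finrank_plus _) e1 (fun c hc => (e2 c hc).le) ?_ ?_ fun h0 => ⟨by rw [h0]; ring, Or.inl ?_⟩)
    · zify at e3 ⊢
      push_cast at hv
      have : ((x : ℤ) + 1) * B ≤ (x + 1) * Fintype.card Ω := by gcongr
      have e4 : 2 * ((x : ℤ) * v) = 2 * ((x + 1) * B) := by linear_combination x * hv - (x + 1) * hB
      linarith
    all_goals rw [← hq]; push_cast
    · rw [show (3 : ℤ) ^ (2 * j + 6) = 9 * (3 ^ (j + 2)) ^ 2 by ring, ← hy']
      rw [hx'] at hB
      refine ⟨by nlinarith, by nlinarith, fun _ => ⟨by nlinarith, fun _ => ⟨by nlinarith, by nlinarith⟩,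
        fun h => by omega, fun h => by omega⟩, fun h0 => ?_⟩
      have := even_card h0
      rw [← hq] at this
      exact absurd this (by decide)
    · rw [← hy']
      rw [hx'] at hB
      nlinarith
    · subst h0
      rw [hx', hy'] at hB
      omega
  · exact Nat.mul_le_mul (Nat.le_succ _) (h4 h5)

end conc

section data

variable {G Ω : Type*} [Group G] [MulAction G Ω] [FaithfulSMul G Ω] [Fintype Ω] [Nontrivial Ω]
  (h : Two G Ω) {F : Type*} [Field F] [Fintype F]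
include h

theorem exists_sys_om {ι : Type} [Fintype ι] [DecidableEq ι] {Q : (ι → F) → F}
    {f : Form (Param.orth F) (ι → F)} (e₁ : isometryGroup F Q ≃* f.Isom) (hf : f.Nondeg)
    (h5 : 5 ≤ finrank F (ι → F)) (e : G ≃* POmega F Q) :
    ∃ (H : Subgroup f.Isom) (Y : Finset (f.Isom ⧸ H)) (u : ι → F), Sys f (commutator f.Isom) Y ∧
      TwoY (commutator f.Isom) Y ∧ FaithY (commutator f.Isom) Y ∧ 1 < Y.card ∧
      Y.card = Fintype.card Ω ∧ f.Q u = 0 ∧ u ≠ 0 := by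
  obtain ⟨_, h1, h2⟩ := pull_center h (commutatorEquiv e₁) e
  obtain ⟨H, Y, -, -, S, e1, e2, e3⟩ := exists_sysT hf (orth_big hf (by omega)) (by omega)
    (isE_mem_comm hf h5) (orth_gen hf h5) h1 h2
  obtain ⟨ω, hω⟩ := S.ne
  obtain ⟨u, hu, hu0, -⟩ := S.proper ω hω
  exact ⟨_, Y, u, S, e2, e3, e1 ▸ Fintype.one_lt_card, e1, hu, hu0⟩

omit h in
theorem exists_v (q : ℕ) {a : ℤ} (ha : 0 ≤ a) (hq : 1 ≤ q) (hd : (q : ℤ) - 1 ∣ a) :
    ∃ v : ℕ, (v : ℤ) * (q - 1) = a := by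
  obtain ⟨c, rfl⟩ := hd
  rcases hq.eq_or_lt with rfl | hq
  · exact ⟨0, by simp⟩
  · have c0 : 0 ≤ c := le_of_mul_le_mul_left (a := (q : ℤ) - 1) (by simpa using ha) (by omega)
    exact ⟨c.toNat, by rw [Int.toNat_of_nonneg c0, mul_comm]⟩

/-- All the data for the odd-dimensional groups. -/
theorem data_odd (hodd : Odd (Fintype.card F)) {j q x : ℕ} (hq : q = Nat.card F) (hx : x = q ^ (j + 2))
    (e : G ≃* POmega F (quadFormOdd (j + 3) F)) :
    ∃ (H : Subgroup (oddForm (j + 3) F).Isom) (Y : Finset ((oddForm (j + 3) F).Isom ⧸ H)) (u : _) (v : ℕ),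
      Sys (oddForm (j + 3) F) (commutator _) Y ∧ TwoY (commutator (oddForm (j + 3) F).Isom) Y ∧
      FaithY (commutator (oddForm (j + 3) F).Isom) Y ∧ 1 < Y.card ∧ (oddForm (j + 3) F).Q u = 0 ∧ u ≠ 0 ∧
      PTr (commutator (oddForm (j + 3) F).Isom) u Y ∧
      Nat.card {w // (oddForm (j + 3) F).Q w = 0} = q ^ 2 * x ^ 2 ∧
      (v : ℤ) * (q - 1) = q ^ 2 * x ^ 2 - 1 ∧ (5 ≤ q → v ≤ Y.card) ∧
      (q = 3 → 3 * x * (3 * x - 1) ≤ 2 * Y.card) := by
  obtain ⟨H, Y, u, S, a1, a2, a3, a4, hu, hu0⟩ := exists_sys_om h (oddEquiv (j + 3) F)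
    (oddForm_nondeg _ (two_ne_zero_of_odd hodd)) (by rw [finrank_odd]; omega) e
  have q2 : 1 < q := hq ▸ Finite.one_lt_card
  have e0 : (q : ℤ) ^ 2 * x ^ 2 = q ^ (2 * (j + 3)) := by rw [hx]; push_cast; ring
  obtain ⟨v, hv⟩ := exists_v q (a := q ^ 2 * x ^ 2 - 1)
    (by rw [e0]; exact sub_nonneg.2 (one_le_pow₀ (by omega))) q2.le
    (by rw [e0]; simpa using sub_dvd_pow_sub_pow (q : ℤ) 1 _)
  have h0 : Nat.card {w // (oddForm (j + 3) F).Q w = 0} = q ^ 2 * x ^ 2 := by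
    zify
    rw [(odd_counts (j + 2)).1, hx, ← hq]; push_cast; ring
  obtain ⟨b1, b2⟩ := min_odd h hq hodd hx hv e
  rw [← a4] at b1 b2
  refine ⟨H, Y, u, v, S, a1, a2, a3, hu, hu0, om_PTr_odd S a1 hq hx (finrank_odd _) h0 hv ?_ hu hu0,
    h0, hv, b1, b2⟩
  rw [← Nat.card_eq_fintype_card, ← hq, Nat.odd_iff] at hodd
  rcases (show q = 3 ∨ 5 ≤ q by omega) with h3 | h5
  · exact .inr ⟨h3, b2 h3⟩
  · exact .inl (b1 h5)

/-- All the data for the groups of plus type. -/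
theorem data_plus {j q x y : ℕ} (hq : q = Nat.card F) (hy : y = q ^ (j + 2)) (hx : x = q * y)
    (e : G ≃* POmega F (quadFormPlus (j + 4) F)) :
    ∃ (H : Subgroup (plusForm (j + 4) F).Isom) (Y : Finset ((plusForm (j + 4) F).Isom ⧸ H)) (u : _) (v : ℕ),
      Sys (plusForm (j + 4) F) (commutator _) Y ∧ TwoY (commutator (plusForm (j + 4) F).Isom) Y ∧
      FaithY (commutator (plusForm (j + 4) F).Isom) Y ∧ 1 < Y.card ∧ (plusForm (j + 4) F).Q u = 0 ∧ u ≠ 0 ∧
      PTr (commutator (plusForm (j + 4) F).Isom) u Y ∧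
      (Nat.card {w // (plusForm (j + 4) F).Q w = 0} : ℤ) = (q * x - 1) * (x + 1) + 1 ∧
      (∀ c, c ≠ 0 → (Nat.card {w // (plusForm (j + 4) F).Q w = c} : ℤ) = x * (q * x - 1)) ∧
      (v : ℤ) * (q - 1) = (q * x - 1) * (x + 1) ∧ (4 ≤ q → v ≤ Y.card) ∧ x * v ≤ (x + 1) * Y.card := by
  obtain ⟨H, Y, u, S, a1, a2, a3, a4, hu, hu0⟩ := exists_sys_om h (plusEquiv (j + 4) F)
    (plusForm_nondeg _) (by rw [finrank_plus]; omega) e
  have q2 : 1 < q := hq ▸ Finite.one_lt_card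
  have e0 : (q : ℤ) * x = q ^ (j + 4) := by rw [hx, hy]; push_cast; ring
  obtain ⟨v, hv⟩ := exists_v q (a := (q * x - 1) * (x + 1))
    (mul_nonneg (by rw [e0]; exact sub_nonneg.2 (one_le_pow₀ (by omega))) (by positivity)) q2.le
    (Dvd.dvd.mul_right (by rw [e0]; simpa using sub_dvd_pow_sub_pow (q : ℤ) 1 _) _)
  have h0 : (Nat.card {w // (plusForm (j + 4) F).Q w = 0} : ℤ) = (q * x - 1) * (x + 1) + 1 := by
    rw [(plus_counts (j + 2)).1, hx, hy, ← hq]; push_cast; ring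
  obtain ⟨b1, b2⟩ := min_plus h hq hy hx hv e
  rw [← a4] at b1 b2
  exact ⟨H, Y, u, v, S, a1, a2, a3, hu, hu0,
    om_PTr_even S a1 hq hy hx (.inl rfl) (finrank_plus _) h0 hv b2 hu hu0, h0, fun c hc => by
      rw [← (plus_counts (j + 2)).2 c hc, hx, hy, ← hq]; push_cast; ring, hv, b1, b2⟩

/-- All the data for the groups of minus type. -/
theorem data_minus {a b : F}
    (hab : ∀ z₁ z₂ : F, z₁ ^ 2 + a * z₁ * z₂ + b * z₂ ^ 2 = 0 → z₁ = 0 ∧ z₂ = 0) {j q x y : ℕ}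
    (hq : q = Nat.card F) (hy : y = q ^ (j + 2)) (hx : x = q * y)
    (e : G ≃* POmega F (quadFormMinus (j + 3) F a b)) :
    ∃ (H : Subgroup (minusForm (j + 3) F a b).Isom) (Y : Finset ((minusForm (j + 3) F a b).Isom ⧸ H))
      (u : _) (v : ℕ), Sys (minusForm (j + 3) F a b) (commutator _) Y ∧
      TwoY (commutator (minusForm (j + 3) F a b).Isom) Y ∧
      FaithY (commutator (minusForm (j + 3) F a b).Isom) Y ∧ 1 < Y.card ∧
      (minusForm (j + 3) F a b).Q u = 0 ∧ u ≠ 0 ∧ PTr (commutator (minusForm (j + 3) F a b).Isom) u Y ∧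
      (Nat.card {w // (minusForm (j + 3) F a b).Q w = 0} : ℤ) = (q * x - -1) * (x + -1) + 1 ∧
      (∀ c, c ≠ 0 → (Nat.card {w // (minusForm (j + 3) F a b).Q w = c} : ℤ) = x * (q * x - -1)) ∧
      (v : ℤ) * (q - 1) = (q * x - -1) * (x + -1) ∧ v ≤ Y.card ∧ x * v ≤ (x + 1) * Y.card := by
  obtain ⟨H, Y, u, S, a1, a2, a3, a4, hu, hu0⟩ := exists_sys_om h (minusEquiv (j + 3) F a b)
    (minusForm_nondeg _ (disc_ne_zero_of_anisotropic hab)) (by rw [finrank_minus]; omega) e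
  have q2 : 1 < q := hq ▸ Finite.one_lt_card
  have e0 : (x : ℤ) + -1 = q ^ (j + 3) - 1 := by rw [hx, hy]; push_cast; ring
  obtain ⟨v, hv⟩ := exists_v q (a := (q * x - -1) * (x + -1))
    (mul_nonneg (by rw [sub_neg_eq_add]; positivity)
      (by rw [e0]; exact sub_nonneg.2 (one_le_pow₀ (by omega)))) q2.le
    (Dvd.dvd.mul_left (by rw [e0]; simpa using sub_dvd_pow_sub_pow (q : ℤ) 1 _) _)
  have h0 : (Nat.card {w // (minusForm (j + 3) F a b).Q w = 0} : ℤ) = (q * x - -1) * (x + -1) + 1 := by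
    rw [minusForm_Q, card_minus_zero (j + 2) hab, hx, hy, ← hq]; push_cast; ring
  have b1 := min_minus h hq hab hy hx hv e
  rw [← a4] at b1
  have b2 := Nat.mul_le_mul (Nat.le_succ x) b1
  exact ⟨H, Y, u, v, S, a1, a2, a3, hu, hu0,
    om_PTr_even S a1 hq hy hx (.inr rfl) (finrank_minus _) h0 hv b2 hu hu0, h0, fun c hc => by
      rw [minusForm_Q, card_minus_ne (j + 2) hab hc, hx, hy, ← hq]; push_cast; ring, hv, b1, b2⟩

end data

end Cfsg.Agent.T2
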