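import Cfsg.Agent.Lib.MI.O9
import Cfsg.Agent.Lib.T2.Tv
import Cfsg.Agent.Lib.Forms.PFix

/-!
Doubly transitive actions of orthogonal groups: the unipotent radical is not semiregular with `q` orbits.
-/

set_option autoImplicit false

namespace Cfsg.Agent.T2

open Module Cfsg.Agent.Forms Cfsg.Agent.Forms.Form Cfsg.Agent.Cls Cfsg.Agent.Deg Cfsg.Agent.MI Finset
open scoped Pointwise

variable {F : Type*} [Field F] {V : Type*} [AddCommGroup V] [Module F V]
  {f : Form (Param.orth F) V} [Fintype F] [Finite V] {u : V}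
  {X : Type*} [MulAction f.Isom X] {ω : X} {Y : Finset X}

theorem full_of_small (hf : f.Nondeg) (h5 : 5 ≤ finrank F V)
    (hY : ∀ (g : f.Isom) z v l, f.Q z = 0 → IsE g z v l → ∀ ω ∈ Y, g • ω ∈ Y) (hn : Y.card ≤ Nat.card F)
    (hu : f.Q u = 0) (hu0 : u ≠ 0) (hω : ω ∈ Y) : Full f u ω := by
  obtain ⟨c⟩ := exists_chr_orth F
  refine ofull_of_Bl_le (c := c) hf hu fun y hy => by_contra fun hy' => ?_
  obtain ⟨z, z1, z2, z3⟩ := exists_sing_perp hf (S := F ∙ u) (by rw [finrank_span_singleton hu0]; omega) hy'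
  rw [mem_orth_singleton] at z1
  obtain ⟨a, a1, a2⟩ := exists_not_mem_of_finrank (S := f.orth (Submodule.span F {u, z})) (T := Submodule.span F {u, z})
    (by have := hf.finrank_add_orth (Submodule.span F {u, z}); have := finrank_span_pair_le (F := F) u z; omega)
  rw [mem_orth_pair] at a1
  have hg := fun s : F => isE_siegel z2 (v := s • a) (by rw [B_smul_left, a1.2, mul_zero])
  have uz := f.B_eq_zero_symm z1
  let φ : F × F → V := fun p => (f.siegel z (p.1 • a) z2 (hg p.1).orth).1 y + p.2 • u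
  have hφ : Function.Injective φ := fun p p' e => by
    simp only [φ, oE_app (hg _)] at e
    have h1 : p.1 = p'.1 := by
      by_contra h
      refine a2 ((Submodule.smul_mem_iff _ (mul_ne_zero z3 (sub_ne_zero.2 h))).1 (Submodule.mem_span_pair.2 ⟨p'.2 - p.2,
        f.B y (p.1 • a) + f.Q (p.1 • a) * f.B y z - (f.B y (p'.1 • a) + f.Q (p'.1 • a) * f.B y z), ?_⟩))
      linear_combination (norm := module) -e
    rw [h1, add_right_inj] at e
    exact Prod.ext h1 (smul_left_injective F hu0 e)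
  have h1 := class_le_span (c := c) (f := f) (Y := Y) hu hu0 (C := Set.range φ) (m := 1) (y := φ 0) (by
    rintro _ ⟨p, rfl⟩
    refine not_mem_span_of_B uz ?_
    simpa [φ, oE_app (hg _), uz, a1.2, f.B_self_of_Q z2] using z3) ⟨0, rfl⟩ (by
    rintro _ ⟨p, rfl⟩
    refine (one_le_wt u _).trans (mu_ge_one hf hu hu0 ?_ (hY _ _ _ _ z2 (hg p.1) ω hω) (add_mem (mem_Bl_fix
      ((hg p.1).apply_of_orth uz (by rw [oB_smul, f.B_eq_zero_symm a1.1, mul_zero])) hy) (smul_self_mem_Bl hu _)))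
    rintro ω hω _ ⟨g, v, l, h, rfl⟩
    exact hY g u v l hu h ω hω)
  rw [Set.ncard_range_of_injective hφ, Nat.card_prod] at h1
  have h2 : (Y.card : ℚ) ≤ Nat.card F := by exact_mod_cast hn
  have h3 : (0 : ℚ) < Nat.card F := by exact_mod_cast Nat.card_pos
  push_cast at h1
  nlinarith

theorem om_reg_false (S : Sys f (commutator f.Isom) Y) {k : ℕ} (hk : finrank F V = k + 2)
    (h5 : 5 ≤ k) (h2 : (2 : F) ≠ 0) (hu : f.Q u = 0) (hu0 : u ≠ 0)
    (hP : PTr (commutator f.Isom) u Y) (hr : ∀ ω ∈ Y, Reg f u ω)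
    (hn : Y.card = Nat.card F ^ (k + 1)) : False := by
  classical
  obtain ⟨c⟩ := exists_chr_orth F
  have hq : 1 < Nat.card F := Finite.one_lt_card
  have hcl := S.cl hu (S.pinv u)
  let β : X → Set X := fun ω => {ω' | SO f u ω ω'}
  have hβ : ∀ ω ∈ Y, (β ω).ncard = Nat.card F ^ k := fun ω hω => by
    have := card_orbit (c := c) S.nd hu hu0 ω
    rw [card_Bl_of_Sb_le hu (hr ω hω).1, card_perp_pow S.nd hu0 hk, wt_orth, mul_one, pow_succ] at this
    exact Nat.eq_of_mul_eq_mul_right (by omega) this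
  have hY' : (Y.image β).card = Nat.card F := by
    rw [card_eq_sum_card_image β Y, sum_const_nat (m := Nat.card F ^ k), pow_succ'] at hn
    · exact Nat.eq_of_mul_eq_mul_right (by positivity) hn
    intro _ h
    obtain ⟨a, ha, rfl⟩ := mem_image.1 h
    rw [← hβ a ha, ← Set.ncard_coe_finset]
    congr 1
    ext b
    simp only [coe_filter, Set.mem_ofPred_eq]
    exact ⟨fun hb => hb.2 ▸ SO.refl u b, fun hb => ⟨hcl a ha b hb, Set.ext fun _ =>
      ⟨SO.trans hu hb, SO.trans hu (SO.symm hu hb)⟩⟩⟩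
  let K : Subgroup f.Isom :=
    { carrier := {g | g ∈ commutator f.Isom ∧ ∀ ω ∈ Y, SO f u ω (g • ω)}
      mul_mem' := fun {a b} ha hb => ⟨mul_mem ha.1 hb.1, fun ω hω =>
        mul_smul a b ω ▸ (hb.2 ω hω).trans hu (ha.2 _ (S.inv b hb.1 ω hω))⟩
      one_mem' := ⟨one_mem _, fun ω _ => (one_smul f.Isom ω).symm ▸ SO.refl u ω⟩
      inv_mem' := fun {a} ha => ⟨inv_mem ha.1, fun ω hω => by
        simpa using (ha.2 _ (S.inv _ (inv_mem ha.1) ω hω)).symm hu⟩ }
  have hE : ∀ {g v l}, IsE g u v l → g ∈ K := fun hg => ⟨S.ein hu hg, fun ω _ => ⟨_, _, _, hg, rfl⟩⟩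
  obtain ⟨e, he⟩ := S.nd.exists_hypPair hu hu0
  have hf' : (f.restrict (f.orth (LinearMap.range (pairMap F u e)))).Nondeg := by
    rw [range_pairMap]; exact he.restrict_orth_nondeg S.nd
  have h5' : 5 ≤ finrank F (f.orth (LinearMap.range (pairMap F u e))) := by
    rw [range_pairMap]; have := he.finrank_orth S.nd; omega
  let _ : MulAction _ (Set X) := MulAction.compHom (Set X) (he.ext S.nd)
  have hc : ∀ {g z v l}, (f.restrict (f.orth (LinearMap.range (pairMap F u e)))).Q z = 0 → IsE g z v l →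
      he.ext S.nd g ∈ commutator f.Isom := fun hz hg => by
    exact Subgroup.commutator_mono le_top le_top ((Subgroup.map_commutator ⊤ ⊤ (he.ext S.nd)).le
      (Subgroup.mem_map_of_mem _ (isE_mem_comm hf' h5' hz hg)))
  have hs : ∀ g ω, he.ext S.nd g • β ω = β (he.ext S.nd g • ω) := fun g ω => Set.ext fun x =>
    ⟨by rintro ⟨y, hy, rfl⟩; exact SO.map hy (by rw [he.ext_u, one_smul]) one_ne_zero, fun h =>
      Set.mem_smul_set_iff_inv_smul_mem.2 (by
        simpa [β] using SO.map h (k := (he.ext S.nd g)⁻¹) (by rw [← map_inv, he.ext_u, one_smul]) one_ne_zero)⟩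
  have hG := orth_gen hf' h5' (K.comap (he.ext S.nd)) fun z v l hz hv hl => by
    by_cases h0 : z = 0
    · subst h0
      convert Subgroup.one_mem _
      exact Isom.ext fun w => by simp [eichler_apply]
    refine ⟨hc hz (isE_eichler hz hv hl), fun ω hω => ?_⟩
    have := (full_of_small (Y := Y.image β) hf' h5' (fun g z v l hz hg _ h => by
      obtain ⟨a, ha, rfl⟩ := mem_image.1 h
      exact mem_image.2 ⟨_, S.inv _ (hc hz hg) a ha, (hs g a).symm⟩) hY'.le hz h0 (mem_image_of_mem β hω)).smul_eq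
      (isE_eichler hz hv hl)
    exact (show _ ∈ β ω from this ▸ Set.smul_mem_smul_set (SO.refl u ω))
  have hK : ∀ g : f.Isom, g.1 u = u → g ^ 2 ∈ K := fun g hg => by
    obtain ⟨v, l, h1, h3, h4, h6, -⟩ := exists_eichler_map he (show f.HypPair u (g.1 e) by simpa [hg] using he.map g)
    have h7 := isE_eichler h1 h3 h4
    generalize f.eichler u v l h1 h3 h4 = ρ at h6 h7
    obtain ⟨a, ha⟩ := he.exists_ext S.nd (g := ρ⁻¹ * g) (by rw [Isom.mul_apply, hg, (h7.inv hu).apply_self hu])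
      (by rw [Isom.mul_apply, ← h6, Isom.inv_apply])
    have h8 := h7.conj (he.ext S.nd a)
    rw [he.ext_u] at h8
    convert mul_mem (mul_mem (hE h7) (hE h8)) (hG (hf'.sq_mem_commutator (.inr h5') a)) using 1
    rw [map_pow, ha, sq, sq]
    group
  let P : Subgroup f.Isom :=
    { carrier := {g | g ∈ commutator f.Isom ∧ ∃ s : F, s ≠ 0 ∧ g.1 u = s • u}
      mul_mem' := fun {a b} ⟨ha, s, hs, e⟩ ⟨hb, t, ht, e'⟩ => ⟨mul_mem ha hb, t * s, mul_ne_zero ht hs, by
        rw [Isom.mul_apply, e', map_smul, e, smul_smul]⟩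
      one_mem' := ⟨one_mem _, 1, one_ne_zero, by simp⟩
      inv_mem' := fun {a} ⟨ha, s, hs, e⟩ => ⟨inv_mem ha, s⁻¹, inv_ne_zero hs, by
        rw [eq_inv_smul_iff₀ hs, ← map_smul, ← e, Isom.inv_apply]⟩ }
  obtain ⟨p, hp⟩ := CharP.exists F
  obtain ⟨n, hp1, hp2⟩ := FiniteField.card F p
  have := Fact.mk hp1
  obtain ⟨T⟩ : Nonempty (Sylow p P) := inferInstance
  have hT : ∀ g ∈ (T : Subgroup P), g.1 ∈ K := fun g hg => by
    obtain ⟨m, hm⟩ := T.isPGroup' ⟨g, hg⟩
    have h3 : g.1 ^ p ^ m = 1 := congrArg (fun x => x.1.1) hm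
    obtain ⟨-, s, hs, e⟩ := g.2
    have h4 : ∀ j : ℕ, (g.1 ^ j).1 u = s ^ j • u := fun j => by
      induction j with
      | zero => simp
      | succ j ih => rw [pow_succ, Isom.mul_apply, e, map_smul, ih, smul_smul, pow_succ']
    have h6 := h4 (p ^ m)
    rw [h3, Isom.one_apply] at h6
    have h7 : s = 1 := by
      have := sub_pow_char_pow (p := p) (n := m) s 1
      rw [← smul_left_injective F hu0 ((one_smul F u).trans h6), one_pow, sub_self] at this
      exact sub_eq_zero.1 (pow_eq_zero_iff (pow_ne_zero _ hp1.ne_zero) |>.1 this)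
    obtain ⟨j, hj⟩ : Odd (p ^ m) := (hp1.odd_of_ne_two (by rintro rfl; exact h2 CharTwo.two_eq_zero)).pow
    rw [hj, pow_succ, pow_mul, mul_eq_one_iff_inv_eq] at h3
    exact h3 ▸ inv_mem (pow_mem (hK _ (by rw [e, h7, one_smul])) j)
  obtain ⟨ω, hω⟩ := S.ne
  have h3 : (MulAction.stabilizer P ω).index = Nat.card F ^ (k + 1) := by
    rw [MulAction.index_stabilizer, ← hn, ← Set.ncard_coe_finset]
    congr 1
    ext x
    exact ⟨by rintro ⟨g, rfl⟩; exact S.inv _ g.2.1 ω hω, fun h =>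
      let ⟨g, h1, s, h3, h4, h6⟩ := hP ω hω x h; ⟨⟨g, h1, s, h3, h4⟩, h6⟩⟩
  have h4 : Nat.card F ^ (k + 1) ∣ (MulAction.stabilizer (T : Subgroup P) ω).index := by
    refine Nat.Coprime.dvd_of_dvd_mul_right (n := (T : Subgroup P).index) ?_ ?_
    · rw [Nat.card_eq_fintype_card, hp2]
      exact (((Nat.Prime.coprime_iff_not_dvd hp1).2 T.not_dvd_index).pow_left _).pow_left _
    · rw [← h3, show (MulAction.stabilizer (T : Subgroup P) ω).index = (MulAction.stabilizer P ω).relIndex T from rfl,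
        ← Subgroup.inf_relIndex_right, Subgroup.relIndex_mul_index inf_le_right]
      exact Subgroup.index_dvd_of_le inf_le_left
  have h6 := (Nat.le_of_dvd (Nat.pos_of_ne_zero Subgroup.FiniteIndex.index_ne_zero) h4).trans
    ((MulAction.index_stabilizer _ _).trans_le ((Set.ncard_le_ncard (t := β ω) (by
      rintro _ ⟨g, rfl⟩; exact (hT g.1 g.2).2 ω hω) ((Y.finite_toSet).subset (hcl ω hω))).trans_eq (hβ ω hω)))
  exact absurd h6 (not_le.2 (Nat.pow_lt_pow_right hq k.lt_succ_self))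

end Cfsg.Agent.T2
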