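import Cfsg.Agent.Lib.T2.SP
import Cfsg.Agent.S2149

/-!
Doubly transitive actions of the projective special unitary groups.
-/

set_option autoImplicit false

namespace Cfsg.Agent.T2

open Module Cfsg.Agent.Forms Cfsg.Agent.Forms.Form Cfsg.Agent.Cls Cfsg.Agent.Deg Cfsg.Agent.MI Finset

variable {F : Type*} [Field F] {V : Type*} [AddCommGroup V] [Module F V] [Fintype F] {q : ℕ}
  {hF : Fintype.card F = q ^ 2} {f : Form (uP hF) V} [Finite V] {X : Type*} [MulAction f.Isom X]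
  {Y : Finset X} {u : V}

theorem su_degree (S : Sys f f.SIsom Y) (h2 : TwoY f.SIsom Y) (hu : f.Q u = 0) (hu0 : u ≠ 0)
    (hP : ¬ PTr f.SIsom u Y) {i : ℕ} (hk : finrank F V = i + 2 + 2) {z : ℤ}
    (hz : z = (-1) ^ i * q ^ (i + 1)) :
    (Y.card - 1 : ℤ) * (q + 1) * (q ^ 2 - 1) = q ^ 3 * (q * z - 1) * (q ^ 2 * z + 1) ∨
      (Y.card - 1 : ℤ) * (q + 1) * (q ^ 2 - 1) = q ^ 2 * (z + 1) * (q ^ 3 * z - 1) := by
  have q2 : (2 : ℚ) ≤ q := by exact_mod_cast two_le_q hF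
  have q1 : (q : ℚ) ^ 2 - 1 ≠ 0 := by nlinarith
  have hc : (Nat.card F : ℚ) = q ^ 2 := by rw [card_F hF, Nat.cast_pow]
  have hz' : (z : ℚ) = (-1) ^ i * q ^ (i + 1) := by exact_mod_cast hz
  have hε := neg_one_pow_eq_or ℚ i
  have hx : (q : ℚ) ≤ q ^ (i + 1) := le_self_pow₀ (by linarith) (by omega)
  obtain ⟨μ, hμ⟩ : ∃ μ : ℚ, μ * (q ^ 2 - 1) = (q * z - 1) * (z + 1) := ⟨_, div_mul_cancel₀ _ q1⟩
  have z2 : (2 : ℚ) ≤ z ∨ (z : ℚ) ≤ -2 := by
    rcases hε with e | e <;> rw [e] at hz' <;> [left; right] <;> linarith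
  have μ0 : (q : ℚ) ^ 2 * μ ≠ 0 := mul_ne_zero (by positivity) fun e => by
    rw [e, zero_mul, eq_comm, mul_eq_zero] at hμ
    rcases z2 with h | h <;> rcases hμ with e | e <;> nlinarith
  obtain ⟨l, θ, e1, e2, e3⟩ := pt_srg S h2 hu hu0 hP
    (fun z hz hz0 y hy y' hy' => by
      obtain ⟨b, hb, h⟩ := su_class_sing S.nd hz hz0 hy hz hz0 hy'
      obtain ⟨k, hk, e⟩ := h 1 b (one_mul b)
      exact ⟨k, hk, 1, b, one_ne_zero, hb, e⟩)
    (v := 1 + q ^ 2 * μ + q ^ 3 * z ^ 2) (k := q ^ 2 * μ) (m := μ) (by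
      have e := congrArg (Int.cast (R := ℚ)) (su_card_sing S.nd hk)
      push_cast at e
      rw [e, hc]
      rcases hε with h | h <;> rw [h] at hz' <;> rw [pow_add (-1 : ℚ), h, hz'] <;> rw [hz'] at hμ <;>
        linear_combination (q : ℚ) ^ 2 * hμ) (fun w hw hw0 => by
      have e := congrArg (Int.cast (R := ℚ)) (su_counts S.nd hk hw hw0).2.1
      push_cast at e
      rw [e, hc]
      rcases hε with h | h <;> rw [h] at hz' <;> rw [pow_add (-1 : ℚ), h] <;> rw [hz'] at hμ <;>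
        linear_combination (q : ℚ) ^ 2 * hμ) μ0 (fun w e he => by
      have e1 := he.finrank_orth S.nd
      have e2 := ((he.restrict_orth_nondeg S.nd).card_unit_B (n := i + 2) (by omega)).2
      have e3 := ncard_sing_add_one (f.restrict (f.orth (Submodule.span F {w, e})))
      simp only [unit_Q] at e3
      rw [← e3] at e2
      have e4 := congrArg (Int.cast (R := ℚ)) e2
      push_cast at e4
      rw [ncard_perp_pair, hc, hμ]
      simp only [unit_Q]
      refine mul_left_cancel₀ (show (q : ℚ) ≠ 0 by linarith) ?_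
      rcases hε with h | h <;> rw [h] at hz' <;> rw [pow_add (-1 : ℚ), h] at e4 <;> rw [hz'] <;>
        linear_combination -e4)
  have e4 : l = q ^ 2 * μ - 1 - q * z ^ 2 := mul_left_cancel₀ μ0 (by linear_combination -e1)
  subst e4
  have z0 : (z : ℚ) ≠ 0 := by rcases z2 with h | h <;> linarith [show (z : ℚ) ≠ 0 → True from fun _ => trivial]
  have e5 : (θ + 1 - q * z) * (θ + 1 + z) = 0 := by linear_combination e2 + (θ + 1) * hμ
  rcases mul_eq_zero.1 e5 with e | e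
  · left
    obtain rfl : θ = q * z - 1 := by linarith
    qify
    refine mul_left_cancel₀ z0 ?_
    linear_combination (-(q : ℚ) ^ 2 + 1) * e3 +
      (((Y.card : ℚ) - 1) * (q ^ 2 - 1) + q ^ 3 * z) * hμ
  · right
    obtain rfl : θ = -z - 1 := by linarith
    qify
    refine mul_left_cancel₀ z0 ?_
    linear_combination ((q : ℚ) ^ 2 - 1) * e3 +
      (-((Y.card : ℚ) - 1) * (q ^ 2 - 1) + q ^ 2 * z) * hμ

theorem su_false (S : Sys f f.SIsom Y) (h2 : TwoY f.SIsom Y) (hu : f.Q u = 0) (hu0 : u ≠ 0)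
    (hP : ¬ PTr f.SIsom u Y) {i : ℕ} (hk : finrank F V = i + 2 + 2) {H : Subgroup f.SIsom}
    (hH : H ≠ ⊤) (hi : H.index = Y.card) : False := by
  have q2 : (2 : ℤ) ≤ q := by exact_mod_cast two_le_q hF
  have q1 : (0 : ℤ) < (q + 1) * (q ^ 2 - 1) := mul_pos (by omega) (by nlinarith)
  have h := su_degree S h2 hu hu0 hP hk rfl
  rcases Nat.eq_zero_or_pos i with rfl | i1
  · simp only [pow_zero, zero_add, pow_one, one_mul, mul_assoc] at h
    rcases h with h | h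
    · have e1 : (Y.card : ℤ) = (q ^ 2 + 1) * (q ^ 3 - q ^ 2 + 1) :=
        mul_right_cancel₀ q1.ne' (by linear_combination h)
      have : Nontrivial V := ⟨u, 0, hu0⟩
      have e2 := S.nd.card_gu hk
      rw [← S.nd.card_SIsom] at e2
      obtain ⟨c, hc⟩ := H.index_dvd_card
      rw [hc, hi] at e2
      simp only [prod_range_succ, prod_range_zero] at e2
      push_cast at e2
      rw [e1] at e2
      have e3 : ((q : ℤ) ^ 3 - q ^ 2 + 1) * c = q ^ 6 * (q - 1) ^ 2 * (q + 1) ^ 3 * (q ^ 2 - q + 1) :=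
        mul_left_cancel₀ (show ((q : ℤ) ^ 2 + 1) * (q + 1) ≠ 0 by positivity) (by linear_combination e2)
      have c1 : IsCoprime ((q : ℤ) ^ 3 - q ^ 2 + 1) (q : ℤ) := ⟨1, -(q ^ 2 - q), by ring⟩
      have c2 : IsCoprime ((q : ℤ) ^ 3 - q ^ 2 + 1) ((q : ℤ) - 1) := ⟨1, -q ^ 2, by ring⟩
      have c3 : IsCoprime ((q : ℤ) ^ 3 - q ^ 2 + 1) ((q : ℤ) + 1) :=
        ⟨-1, q ^ 2 - 2 * q + 2, by ring⟩
      have c4 : IsCoprime ((q : ℤ) ^ 3 - q ^ 2 + 1) ((q : ℤ) ^ 2 - q + 1) :=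
        ⟨q, 1 - q ^ 2, by ring⟩
      have e4 := (((c1.pow_right (n := 6)).mul_right (c2.pow_right (n := 2))).mul_right
        (c3.pow_right (n := 3))).mul_right c4
      have e5 := Int.isUnit_iff.1 (e4.isUnit_of_dvd ⟨c, e3.symm⟩)
      have e6 : (0 : ℤ) < q ^ 2 * (q - 1) := mul_pos (by positivity) (by omega)
      rcases e5 with e | e <;> nlinarith
    · have e1 : (Y.card : ℤ) = q ^ 2 * (q ^ 2 + 1) + 1 :=
        mul_right_cancel₀ q1.ne' (by linear_combination h)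
      have e2 := su4_index_ge S.nd hk H hH
      rw [hi] at e2
      zify at e2
      have e6 : (0 : ℤ) < q ^ 2 * (q - 1) := mul_pos (by positivity) (by omega)
      nlinarith
  · obtain ⟨x, hx⟩ : ∃ x : ℤ, x = q ^ (i + 1) := ⟨_, rfl⟩
    have x1 : (q : ℤ) ^ 2 ≤ x := hx ▸ pow_le_pow_right₀ (by omega) (by omega)
    have e5 := su_index_ge S.nd hk (by omega) (B := Y.card + 1) (by
      refine le_of_mul_le_mul_left (a := (q : ℤ) + 1) ?_ (by omega)
      rw [pow_succ (q : ℤ) (i + 1), ← hx, pow_add (-1 : ℤ)]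
      rw [← hx] at h
      push_cast
      obtain ⟨r, hr⟩ : ∃ r : ℤ, q = r + 2 := ⟨q - 2, by ring⟩
      obtain ⟨s, rfl⟩ : ∃ s : ℤ, x = s + q ^ 2 := ⟨x - q ^ 2, by ring⟩
      have r0 : 0 ≤ r := by omega
      have s0 : 0 ≤ s := by omega
      rw [show ((q : ℤ) + 1) * ((q ^ 2 - 1) * (Y.card + 1)) =
        (Y.card - 1) * (q + 1) * (q ^ 2 - 1) + 2 * (q + 1) * (q ^ 2 - 1) by ring]
      rcases neg_one_pow_eq_or ℤ i with e | e <;> rw [e] at h ⊢ <;> rcases h with h | h <;>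
        rw [h, hr, ← sub_nonneg] <;> ring_nf <;> positivity) (fun e ev => by
      subst e
      rw [(show Even i by simpa [Nat.even_add] using ev).neg_one_pow, ← hx] at h
      push_cast at hx x1 h ⊢
      rw [pow_succ (2 : ℤ) (i + 1), ← hx]
      rcases h with h | h <;> nlinarith) H hH
    omega

theorem psu {G Ω : Type*} [Group G] [MulAction G Ω] [FaithfulSMul G Ω] [Fintype Ω] [Nontrivial Ω]
    (h : Two G Ω) {F : Type*} [Field F] [Fintype F] {n q : ℕ} (hF : Fintype.card F = q ^ 2)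
    (hn : 3 ≤ n) (hx : ¬ (n = 3 ∧ q = 2)) (e : G ≃* PSU n F q) :
    n = 3 ∧ 3 ≤ q ∧ Fintype.card Ω = q ^ 3 + 1 := by
  obtain ⟨_, h1, h2⟩ := pull_center h (suEquiv n hF) e
  have hf := uForm_nondeg n hF
  have hV : finrank F (Fin n → F) = n := by simp
  obtain ⟨H, Y, hH, hi, S, e1, e2, e3⟩ := exists_sysT hf (big_of_lam0 (exists_lam0 hF)) (by omega)
    isE_mem_SIsom (su_gen hf (by omega)) h1 h2
  obtain ⟨u, hu0, hu⟩ := hf.unit_exists_singular (by omega)
  obtain ⟨k, rfl⟩ : ∃ k, n = k + 2 := ⟨n - 2, by omega⟩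
  have hP := su_not_PTr S e2 (e1 ▸ Fintype.one_lt_card) e3 hu hu0 hV (by omega)
    (fun e e' => hx ⟨by omega, e'⟩) hH (hi.trans e1.symm) fun k1 q5 => by
    subst k1 q5
    obtain ⟨a, b, hab⟩ := exists_pair_ne Ω
    have e4 : ((MulAction.stabilizer G a).comap e.symm.toMonoidHom).index = Y.card := by
      rw [Subgroup.index_comap_of_surjective _ e.symm.surjective, MulAction.index_stabilizer,
        Set.eq_univ_of_forall (s := MulAction.orbit G a) (h.trans a), Set.ncard_univ,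
        Nat.card_eq_fintype_card, e1]
    refine e4 ▸ (S2149.result hF).1 _ fun e5 => ?_
    rw [e5, Subgroup.index_top, e1] at e4
    exact Fintype.one_lt_card.ne e4
  rcases Nat.lt_or_ge k 2 with k1 | k2
  · obtain rfl : k = 1 := by omega
    have := two_le_q hF
    exact ⟨rfl, by omega, e1 ▸ su3_card S e2 hu hu0 hV hP⟩
  · obtain ⟨i, rfl⟩ : ∃ i, k = i + 2 := ⟨k - 2, by omega⟩
    exact (su_false S e2 hu hu0 hP hV hH (hi.trans e1.symm)).elim

end Cfsg.Agent.T2
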