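import Cfsg.Agent.Lib.MI.V3
import Cfsg.Agent.Lib.MI.W4
import Cfsg.Agent.Lib.T2.Tv

/-!
Doubly transitive actions of unitary groups: the stabiliser of a singular point is intransitive.
-/

set_option autoImplicit false

namespace Cfsg.Agent.T2

open Module Cfsg.Agent.Forms Cfsg.Agent.Forms.Form Cfsg.Agent.Cls Cfsg.Agent.Deg Cfsg.Agent.MI Finset

section general

variable {F : Type*} [Field F] {P : Param F} {V : Type*} [AddCommGroup V] [Module F V]
  {f : Form P V} {X : Type*} [MulAction f.Isom X] {G : Subgroup f.Isom} {Y : Finset X}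

/-- the action on the invariant set -/
@[reducible] def actY (S : Sys f G Y) : MulAction G Y where
  smul g y := ⟨g.1 • y.1, S.inv _ g.2 _ y.2⟩
  one_smul y := Subtype.ext (one_smul f.Isom y.1)
  mul_smul g k y := Subtype.ext (mul_smul g.1 k.1 y.1)

theorem two_actY (S : Sys f G Y) (h : TwoY G Y) : letI := actY S; Two G Y := by
  intro a b c d h1 h2
  obtain ⟨g, hg, e1, e2⟩ := h a a.2 b b.2 c c.2 d d.2 (fun e => h1 (Subtype.ext e))
    fun e => h2 (Subtype.ext e)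
  exact ⟨⟨g, hg⟩, Subtype.ext e1, Subtype.ext e2⟩

theorem exists_Pu [Finite F] [Finite V] (S : Sys f G Y) {u : V} (hu : f.Q u = 0) (hu0 : u ≠ 0) :
    ∃ H : Subgroup G, (∀ g : G, g ∈ H ↔ ∃ s : F, s ≠ 0 ∧ g.1.1 u = s • u) ∧
      H.index * (Nat.card F - 1) = {w | f.Q w = 0 ∧ w ≠ 0}.ncard := by
  let _ : MulAction (G × Fˣ) V :=
    { smul := fun p v => (p.2 : F) • p.1.1.1 v
      one_smul := fun v => one_smul F v
      mul_smul := fun p r v => by
        change ((p.2 : F) * r.2) • p.1.1.1 (r.1.1.1 v) = (p.2 : F) • p.1.1.1 ((r.2 : F) • _)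
        rw [map_smul, mul_smul] }
  have e1 : MulAction.orbit (G × Fˣ) u = {w | f.Q w = 0 ∧ w ≠ 0} := by
    ext w
    constructor
    · rintro ⟨p, rfl⟩
      change f.Q ((p.2 : F) • p.1.1.1 u) = 0 ∧ (p.2 : F) • p.1.1.1 u ≠ 0
      exact ⟨by rw [f.Q_smul, Isom.map_Q, hu, mul_zero], by simpa using hu0⟩
    · intro hw
      obtain ⟨g, hg, a, ha, e⟩ := S.exists_map hu hu0 hw.1 hw.2
      exact ⟨(⟨g, hg⟩, (Units.mk0 a ha)⁻¹), by
        change ((Units.mk0 a ha)⁻¹ : Fˣ).1 • g.1 u = w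
        rw [e]; simp [ha]⟩
  let T := MulAction.stabilizer (G × Fˣ) u
  refine ⟨T.map (MonoidHom.fst G Fˣ), fun g => ⟨?_, ?_⟩, ?_⟩
  · rintro ⟨p, hp, rfl⟩
    have h4 : (p.2 : F) • p.1.1.1 u = u := hp
    exact ⟨(p.2 : F)⁻¹, inv_ne_zero p.2.ne_zero, (eq_inv_smul_iff₀ p.2.ne_zero).2 h4⟩
  · rintro ⟨a, h0, ha⟩
    exact ⟨(g, (Units.mk0 a h0)⁻¹), by
      change ((Units.mk0 a h0)⁻¹ : Fˣ).1 • g.1.1 u = u
      rw [ha]; simp [h0], rfl⟩
  · have e2 : Nat.card (T.map (MonoidHom.fst G Fˣ)) = Nat.card T := by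
      refine (Nat.card_congr (Equiv.ofBijective (fun x : T => ⟨x.1.1, x.1, x.2, rfl⟩)
        ⟨fun x y h => ?_, by rintro ⟨_, x, hx, rfl⟩; exact ⟨⟨x, hx⟩, rfl⟩⟩)).symm
      have h3 : x.1.1 = y.1.1 := congrArg Subtype.val h
      have h4 : (x.1.2 : F) • x.1.1.1.1 u = u := x.2
      have h5 : (y.1.2 : F) • y.1.1.1.1 u = u := y.2
      rw [← h3] at h5
      exact Subtype.ext (Prod.ext h3 (Units.ext (smul_left_injective F
        (show x.1.1.1.1 u ≠ 0 by simpa using hu0) (h4.trans h5.symm))))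
    have e3 := T.index_mul_card
    rw [MulAction.index_stabilizer, e1, Nat.card_prod, Nat.card_units,
      ← (T.map (MonoidHom.fst G Fˣ)).index_mul_card, e2] at e3
    refine Nat.eq_of_mul_eq_mul_right (Nat.card_pos (α := T)) ?_
    rw [e3]; ring

end general

variable {F : Type*} [Field F] {V : Type*} [AddCommGroup V] [Module F V] [Fintype F] {q : ℕ}
  {hF : Fintype.card F = q ^ 2} {f : Form (uP hF) V} [Finite V] {X : Type*} [MulAction f.Isom X]
  {Y : Finset X} {u : V} (S : Sys f f.SIsom Y)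
include S

theorem su_not_PTr (h2 : TwoY f.SIsom Y) (h1 : 1 < Y.card) (hY : FaithY f.SIsom Y) (hu : f.Q u = 0)
    (hu0 : u ≠ 0) {k : ℕ} (hk : finrank F V = k + 2) (k1 : 1 ≤ k) (hx : k = 1 → q ≠ 2)
    {H : Subgroup f.SIsom} (hH : H ≠ ⊤) (hi : H.index = Y.card) (h5 : k = 1 → q = 5 → 50 ≤ Y.card) :
    ¬ PTr f.SIsom u Y := by
  intro hP
  obtain ⟨K, -, hv⟩ := exists_Pu S hu hu0
  generalize K.index = v at hv
  obtain ⟨r, l, r2, r3, -, r5, r4, -, -⟩ := caseB S h2 h1 hY hu hu0 (exists_lam0 hF) hP hv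
  have q2 := two_le_q hF
  obtain ⟨n, hn⟩ := r4 (q ^ k) (fun l hl => by
    obtain ⟨c, hc⟩ := exists_sub_eq (hF := hF) hl
    exact ⟨c, by rw [← hc]; simp⟩) (by
    rw [Module.natCard_eq_pow_finrank (K := F), hk, card_F hF]; ring)
  rw [card_Lam_unit] at r3
  have rq : r ≤ q := Nat.le_of_dvd (by omega) r3
  obtain ⟨s, hs⟩ := r3
  have hv2 := su_card_sing S.nd hk
  have q1 : 1 ≤ q ^ 2 := Nat.one_le_pow _ _ (by omega)
  rw [← hv, card_F hF] at hv2
  have v0 : 0 < v := by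
    refine Nat.pos_of_mul_pos_right (b := Nat.card F - 1) ?_
    rw [hv]
    exact (Set.ncard_pos (Set.toFinite _)).2 ⟨u, hu, hu0⟩
  have l0 : 0 < l := by
    rcases Nat.eq_zero_or_pos l with rfl | h
    · rw [mul_zero, eq_comm, mul_eq_zero] at r5
      omega
    · exact h
  obtain ⟨j, rfl⟩ : ∃ j, k = j + 1 := ⟨k - 1, by omega⟩
  zify [h1.le, show 1 ≤ r by omega, q1] at r5 hn hs hv2 rq r2 l0 v0
  have q2' : (2 : ℤ) ≤ q := by exact_mod_cast q2
  have hε := neg_one_pow_eq_or ℤ (j + 1)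
  have hv3 : (q : ℤ) ^ 2 ∣ v - 1 := by
    refine ⟨v - (q ^ 3 * (q ^ j) ^ 2 + (-1) ^ (j + 1) * (q - 1) * q ^ j), ?_⟩
    rcases hε with e | e <;> rw [e] at hv2 ⊢ <;> linear_combination -hv2
  have key : ∀ M : ℤ, M ∣ q ^ 2 → M ∣ Y.card → (Y.card - 1 : ℤ) * (M - r + 1) ≤ v * (r - 1) :=
    fun M e1 e2 => by
    have e3 : M ∣ l + r - 1 := by
      have : (l + r - 1 : ℤ) = Y.card * l - (v - 1) * (r - 1) := by linear_combination -r5
      rw [this]
      exact (e2.mul_right _).sub ((e1.trans hv3).mul_right _)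
    have e4 := Int.le_of_dvd (by omega) e3
    rw [← r5]
    exact mul_le_mul_of_nonneg_left (by omega) (by omega)
  have hq0 : (0 : ℤ) < q ^ 2 - 1 := by nlinarith
  rcases Nat.eq_zero_or_pos j with rfl | j1
  · have e1 := key (q * r) ⟨s, by rw [sq]; nth_rw 2 [hs]; ring⟩ ⟨n, by rw [hn]; ring⟩
    have e2 : (v : ℤ) = q ^ 3 + 1 := mul_right_cancel₀ hq0.ne' (by rw [hv2]; ring)
    rw [e2] at e1
    by_cases q5 : q = 5
    · have e3 := h5 rfl q5
      subst q5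
      have e4 : (r : ℤ) = 5 := by
        have : r ∣ 5 := ⟨s, by exact_mod_cast hs⟩
        rcases (Nat.dvd_prime Nat.prime_five).1 this with e | e <;> omega
      rw [e4] at e1
      norm_num at e1
      omega
    · have q3 : 3 ≤ q := by have := hx rfl; omega
      have e3 := su3_index_ge S.nd hk q3 q5 H hH
      rw [hi] at e3
      zify at e3 q3
      have e4 : (q : ℤ) ^ 3 * (q * r - r + 1) ≤ (Y.card - 1) * (q * r - r + 1) :=
        mul_le_mul_of_nonneg_right (by omega) (by nlinarith)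
      have e5 : (q : ℤ) ^ 3 * (2 * r + 1) ≤ q ^ 3 * (q * r - r + 1) :=
        mul_le_mul_of_nonneg_left (by nlinarith) (by positivity)
      have e6 : (1 : ℤ) ≤ q ^ 3 := one_le_pow₀ (by omega)
      nlinarith
  obtain ⟨i, rfl⟩ : ∃ i, j = i + 1 := ⟨j - 1, by omega⟩
  have e1 := key (q ^ 2) dvd_rfl ⟨q ^ i * r * n, by rw [hn]; ring⟩
  have e2 : (Y.card - 1 : ℤ) * (q ^ 2 - q + 1) ≤ v * (q - 1) :=
    ((mul_le_mul_of_nonneg_left (by omega) (by omega)).trans e1).trans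
      (mul_le_mul_of_nonneg_left (by omega) v0.le)
  rcases Nat.eq_zero_or_pos i with rfl | i1
  · have e3 : (v : ℤ) = (q ^ 2 + 1) * (q ^ 3 + 1) := mul_right_cancel₀ hq0.ne' (by rw [hv2]; ring)
    have e4 := su4_index_ge S.nd hk H hH
    rw [hi] at e4
    zify at e4
    have e5 : (Y.card - 1 : ℤ) ≤ q ^ 4 - 1 :=
      le_of_mul_le_mul_right (a := (q : ℤ) ^ 2 - q + 1) (by rw [e3] at e2; linarith) (by nlinarith)
    have e6 : (0 : ℤ) < q ^ 3 := by positivity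
    nlinarith
  · have e3 : 3 * (Y.card - 1 : ℤ) ≤ v := by
      refine le_of_mul_le_mul_right (a := (q : ℤ) - 1) (le_trans ?_ e2) (by omega)
      rw [mul_comm 3, mul_assoc]
      exact mul_le_mul_of_nonneg_left (by nlinarith [sq_nonneg ((q : ℤ) - 2)]) (by omega)
    have e4 : (3 : ℤ) ≤ v := by omega
    have e5 := su_index_ge S.nd hk (by omega) (B := Y.card + 1) (by
      rw [← hv2, mul_comm]
      refine mul_le_mul_of_nonneg_right ?_ hq0.le
      push_cast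
      omega) (fun e ev => by
      subst e
      rw [ev.neg_one_pow] at hv2
      have : (2 : ℤ) ^ 3 ≤ 2 ^ (i + 1 + 1) := pow_le_pow_right₀ (by norm_num) (by omega)
      push_cast at hv2 ⊢
      nlinarith) H hH
    omega

theorem su3_card (h2 : TwoY f.SIsom Y) (hu : f.Q u = 0) (hu0 : u ≠ 0) (h3 : finrank F V = 3)
    (hP : ¬ PTr f.SIsom u Y) : Y.card = q ^ 3 + 1 := by
  let _ := actY S
  have hT := two_actY S h2
  obtain ⟨K, hK, hv⟩ := exists_Pu S hu hu0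
  have hv2 := su_card_sing S.nd (k := 1) h3
  have q2 := two_le_q hF
  have q1 : 1 ≤ q ^ 2 := Nat.one_le_pow _ _ (by omega)
  rw [← hv, card_F hF] at hv2
  have e2 : K.index = q ^ 3 + 1 := by
    zify [q1] at hv2 q2 ⊢
    exact mul_right_cancel₀ (show (q : ℤ) ^ 2 - 1 ≠ 0 by nlinarith) (by rw [hv2]; ring)
  obtain ⟨I, hI, a, b, x, i1, i2⟩ := exists_inc (G := f.SIsom) (Ω := Y) (P := K) fun h =>
    hP fun a ha b hb => by
      obtain ⟨g, hg, e⟩ := h ⟨a, ha⟩ ⟨b, hb⟩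
      obtain ⟨s, hs, e1⟩ := (hK g).1 hg
      exact ⟨g, g.2, s, hs, e1, congrArg Subtype.val e⟩
  have hm : ∀ g k : f.SIsom, ((g : f.SIsom ⧸ K) = k) ↔ ∃ s : F, s ≠ 0 ∧ k.1.1 u = s • g.1.1 u :=
    fun g k => by
    rw [QuotientGroup.eq, hK]
    refine exists_congr fun s => and_congr_right fun _ => ?_
    rw [← map_smul, ← g.1.1.injective.eq_iff]
    change g.1.1 (g.1⁻¹.1 (k.1.1 u)) = _ ↔ _
    rw [Isom.apply_inv]
  have hX : Two f.SIsom (f.SIsom ⧸ K) := by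
    have hp : ∀ g k : f.SIsom, ((g : f.SIsom ⧸ K) ≠ k) →
        ∃ c : F, c ≠ 0 ∧ f.HypPair (g.1.1 u) (c • k.1.1 u) := fun g k h => by
      have e1 : f.Q (g.1.1 u) = 0 := by rwa [Isom.map_Q]
      have e3 : f.Q (k.1.1 u) = 0 := by rwa [Isom.map_Q]
      have e4 := B_ne_symm (su3_B_ne S.nd h3 e1 (by simpa using hu0) e3 fun e => h (by
        obtain ⟨s, hs⟩ := Submodule.mem_span_singleton.1 e
        refine (hm g k).2 ⟨s, ?_, hs.symm⟩
        rintro rfl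
        exact hu0 (by simpa using hs.symm)))
      exact ⟨_, Param.σ_ne_zero _ (inv_ne_zero e4), hypPair_of_ne e1 e3 e4⟩
    intro x1 x2 x3 x4 e1 e3
    obtain ⟨g1, rfl⟩ := QuotientGroup.mk_surjective x1
    obtain ⟨g2, rfl⟩ := QuotientGroup.mk_surjective x2
    obtain ⟨g3, rfl⟩ := QuotientGroup.mk_surjective x3
    obtain ⟨g4, rfl⟩ := QuotientGroup.mk_surjective x4
    obtain ⟨c, hc, p1⟩ := hp _ _ e1
    obtain ⟨d, hd, p2⟩ := hp _ _ e3
    obtain ⟨g, hg, e4, e5⟩ := su3_hyp S.nd h3 p1 p2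
    have e6 := (hm (⟨g, hg⟩ * g1) g3).2 ⟨1, one_ne_zero, by rw [one_smul]; exact e4.symm⟩
    have e7 := (hm (⟨g, hg⟩ * g2) g4).2 ⟨d⁻¹ * c, mul_ne_zero (inv_ne_zero hd) hc, by
      rw [mul_smul, eq_inv_smul_iff₀ hd, ← e5, map_smul]
      rfl⟩
    exact ⟨⟨g, hg⟩, e6, e7⟩
  have e3 := hT.card_le hI i1 i2
  obtain ⟨g, rfl⟩ := hT.trans b a
  have e4 := hX.card_le (X := Y) (I := fun x a => I a x) (fun g x a => hI g a x) i1
    (b₀ := g • x) fun e => i2 ((inv_iff hI g b x).1 e)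
  rw [Nat.card_eq_finsetCard] at e3 e4
  rw [← e2]
  exact le_antisymm e3 e4

end Cfsg.Agent.T2
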